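import Groth.Agent.GmExtLib.Push
import Mathlib.Algebra.Polynomial.Laurent
import Mathlib.Tactic.LinearCombination

/-!
# The ring glued from Laurent polynomials along a cocycle of units
-/

set_option autoImplicit false
set_option maxHeartbeats 1000000
universe u

open LaurentPolynomial GmExtLib

noncomputable section

namespace GmVanishLib

variable {B : Type u} [CommRing B]

/-- Laurent polynomials are determined on constants and the variable. -/
theorem lp_hom_ext {R S : Type u} [CommRing R] [CommRing S] {φ ψ : LaurentPolynomial R →+* S}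
    (h₁ : ∀ r, φ (LaurentPolynomial.C r) = ψ (LaurentPolynomial.C r)) (h₂ : φ (T 1) = ψ (T 1)) : φ = ψ := by
  refine IsLocalization.ringHom_ext (Submonoid.powers (Polynomial.X : Polynomial R))
    (Polynomial.ringHom_ext (fun r => ?_) ?_)
  · show φ (Polynomial.toLaurent (Polynomial.C r)) = ψ (Polynomial.toLaurent (Polynomial.C r))
    rw [Polynomial.toLaurent_C]
    exact h₁ r
  · show φ (Polynomial.toLaurent Polynomial.X) = ψ (Polynomial.toLaurent Polynomial.X)
    rw [Polynomial.toLaurent_X]
    exact h₂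

/-- The variable as a unit. -/
def Tu (R : Type u) [CommRing R] : (LaurentPolynomial R)ˣ := (isUnit_T 1).unit

theorem val_Tu (R : Type u) [CommRing R] : ((Tu R : (LaurentPolynomial R)ˣ) : LaurentPolynomial R) = T 1 :=
  IsUnit.unit_spec _

theorem eval₂_T_one {R S : Type u} [CommRing R] [CommRing S] (φ : R →+* S) (x : Sˣ) :
    LaurentPolynomial.eval₂ φ x (T 1) = x := by
  rw [LaurentPolynomial.eval₂_T, zpow_one]

theorem map_eq_of_powers {S : Type u} [CommRing S] {g h : B} {z w : S} [Algebra B S]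
    (hz : ∃ N, algebraMap B S g ^ N * z = algebraMap B S g ^ N * w) (hu : IsUnit (algebraMap B S g)) : z = w := by
  obtain ⟨N, hN⟩ := hz
  exact (hu.pow N).mul_left_cancel hN

/-- Elements agreeing on all localizations of a cover agree. -/
theorem eq_of_locally {κ : Type} [Finite κ] {f : κ → B} (hspan : Ideal.span (Set.range f) = ⊤) {z w : B}
    (h : ∀ k, algebraMap B (L (f k)) z = algebraMap B (L (f k)) w) : z = w := by
  classical
  cases nonempty_fintype κ
  have h0 : ∀ k, ∃ N, ∀ M, N ≤ M → f k ^ M * z = f k ^ M * w := fun k => by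
    obtain ⟨⟨_, n, rfl⟩, hn⟩ := (IsLocalization.eq_iff_exists (Submonoid.powers (f k)) _).1 (h k)
    refine ⟨n, fun M hM => ?_⟩
    obtain ⟨d, rfl⟩ := Nat.exists_eq_add_of_le hM
    rw [pow_add, mul_comm (f k ^ n), mul_assoc, mul_assoc]
    exact congrArg (f k ^ d * ·) hn
  obtain ⟨N, hN⟩ := exists_uniform h0
  obtain ⟨r, hr⟩ := exists_partition hspan N
  calc z = ∑ k, r k * (f k ^ N * z) := by simp only [← mul_assoc, ← Finset.sum_mul, hr, one_mul]
    _ = w := by simp only [hN _ N le_rfl, ← mul_assoc, ← Finset.sum_mul, hr, one_mul]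

variable {κ : Type} {f : κ → B} (a : ∀ i j, (L (f i * f j))ˣ)

/-- Laurent polynomials over a localization. -/
abbrev LP (g : B) : Type u := LaurentPolynomial (L g)

/-- The left restriction. -/
def sL (k l : κ) : LP (f k) →+* LP (f k * f l) :=
  LaurentPolynomial.eval₂ (LaurentPolynomial.C.comp (ml (f k) (f l)).toRingHom) (Tu _)

/-- The twisted right restriction. -/
def sR (k l : κ) : LP (f l) →+* LP (f k * f l) :=
  LaurentPolynomial.eval₂ (LaurentPolynomial.C.comp (mr (f k) (f l)).toRingHom)
    (Units.map LaurentPolynomial.C.toMonoidHom (a k l)⁻¹ * Tu _)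

theorem sL_C (k l : κ) (x : L (f k)) : sL k l (LaurentPolynomial.C x) = LaurentPolynomial.C (ml (f k) (f l) x) :=
  LaurentPolynomial.eval₂_C _ _ _

theorem sR_C (k l : κ) (x : L (f l)) : sR a k l (LaurentPolynomial.C x) = LaurentPolynomial.C (mr (f k) (f l) x) :=
  LaurentPolynomial.eval₂_C _ _ _

theorem sL_T (k l : κ) : sL (f := f) k l (T 1) = T 1 := by rw [sL, eval₂_T_one, val_Tu]

theorem sR_T (k l : κ) : sR a k l (T 1) = LaurentPolynomial.C (↑(a k l)⁻¹ : L (f k * f l)) * T 1 := by
  rw [sR, eval₂_T_one, Units.val_mul, val_Tu]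
  rfl

theorem sL_C_T (k l : κ) (x : L (f k)) (n : ℤ) :
    sL k l (LaurentPolynomial.C x * T n) = LaurentPolynomial.C (ml (f k) (f l) x) * T n := by
  have h : ((Tu (L (f k * f l))) ^ n).val = T n := by
    induction n using Int.induction_on with
    | zero => simp
    | succ n ih => rw [zpow_add_one, Units.val_mul, ih, val_Tu, ← T_add]
    | pred n ih =>
      rw [zpow_sub_one, Units.val_mul, ih]
      refine (Units.mul_inv_eq_iff_eq_mul (Tu (L (f k * f l)))).2 ?_
      rw [val_Tu, ← T_add, sub_add_cancel]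
  rw [sL, LaurentPolynomial.eval₂_C_mul_T, h]
  rfl

theorem val_zpow_CT {S : Type u} [CommRing S] (v : Sˣ) (n : ℤ) :
    ((Units.map LaurentPolynomial.C.toMonoidHom v * Tu S) ^ n).val = LaurentPolynomial.C (↑(v ^ n) : S) * T n := by
  have h : ((Tu S) ^ n).val = T n := by
    induction n using Int.induction_on with
    | zero => simp
    | succ n ih => rw [zpow_add_one, Units.val_mul, ih, val_Tu, ← T_add]
    | pred n ih =>
      rw [zpow_sub_one, Units.val_mul, ih]
      refine (Units.mul_inv_eq_iff_eq_mul (Tu S)).2 ?_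
      rw [val_Tu, ← T_add, sub_add_cancel]
  rw [mul_zpow, Units.val_mul, h, ← map_zpow]
  rfl

theorem sR_C_T (k l : κ) (x : L (f l)) (n : ℤ) :
    sR a k l (LaurentPolynomial.C x * T n) =
      LaurentPolynomial.C (mr (f k) (f l) x * ↑((a k l)⁻¹ ^ n)) * T n := by
  rw [sR, LaurentPolynomial.eval₂_C_mul_T, val_zpow_CT, ← mul_assoc, map_mul]
  rfl

/-- The compatible families. -/
def RgS : Subalgebra B (∀ k, LP (f k)) where
  carrier := {P | ∀ k l, sL k l (P k) = sR a k l (P l)}
  mul_mem' {P Q} hP hQ k l := by simp only [Pi.mul_apply, map_mul, hP k l, hQ k l]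
  add_mem' {P Q} hP hQ k l := by simp only [Pi.add_apply, map_add, hP k l, hQ k l]
  algebraMap_mem' b k l := by
    show sL k l (LaurentPolynomial.C (algebraMap B (L (f k)) b)) = sR a k l (LaurentPolynomial.C (algebraMap B (L (f l)) b))
    rw [sL_C, sR_C, AlgHom.commutes, AlgHom.commutes]

/-- The glued ring. -/
def Rg : Type u := ↥(RgS a)

instance instCommRingRg : CommRing (Rg a) := inferInstanceAs (CommRing ↥(RgS a))

instance instAlgebraRg : Algebra B (Rg a) := inferInstanceAs (Algebra B ↥(RgS a))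

/-- The projection. -/
def pr (k : κ) : Rg a →+* LP (f k) :=
  (Pi.evalRingHom (fun k => LP (f k)) k).comp (RgS a).val.toRingHom

theorem pr_algebraMap (k : κ) (x : B) :
    pr a k (algebraMap B (Rg a) x) = LaurentPolynomial.C (algebraMap B (L (f k)) x) := rfl

theorem Rg_spec (P : Rg a) (k l : κ) : sL k l (pr a k P) = sR a k l (pr a l P) := P.2 k l

theorem ext_pr {P Q : Rg a} (h : ∀ k, pr a k P = pr a k Q) : P = Q := Subtype.ext (funext h)

variable [Finite κ]

theorem coeff_CT {R : Type u} [CommRing R] (c : R) (m n : ℤ) :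
    (LaurentPolynomial.C c * T m).coeff n = if m = n then c else 0 := by
  classical
  rw [← single_eq_C_mul_T]
  simp [Finsupp.single_apply, -single_eq_C_mul_T]

theorem coeff_C_mul' {R : Type u} [CommRing R] (r : R) (P : LaurentPolynomial R) (n : ℤ) :
    (LaurentPolynomial.C r * P).coeff n = r * P.coeff n := by
  induction P using LaurentPolynomial.induction_on' with
  | add p q hp hq => simp [mul_add, hp, hq]
  | C_mul_T m c => rw [← mul_assoc, ← map_mul, coeff_CT, coeff_CT, mul_ite, mul_zero]

theorem exists_pow_mul_eq_zero' {k : κ} {P : Rg a} (h : pr a k P = 0) :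
    ∃ N : ℕ, algebraMap B (Rg a) (f k) ^ N * P = 0 := by
  classical
  have hl : ∀ l, ∃ N, ∀ M, N ≤ M → LaurentPolynomial.C (algebraMap B (L (f l)) (f k) ^ M) * pr a l P = 0 := by
    intro l
    have h1 : sR a k l (pr a l P) = 0 := by
      refine (P.2 k l).symm.trans ?_
      exact (congrArg (sL k l) h).trans (map_zero _)
    suffices hq : ∀ Q : LP (f l), sR a k l Q = 0 →
        ∃ N, ∀ M, N ≤ M → LaurentPolynomial.C (algebraMap B (L (f l)) (f k) ^ M) * Q = 0 from hq _ h1
    intro Q hQ
    have hc : ∀ n, mr (f k) (f l) (Q.coeff n) = 0 := fun n => by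
      have hco : ∀ Q : LP (f l), (sR a k l Q).coeff n = mr (f k) (f l) (Q.coeff n) * ↑((a k l)⁻¹ ^ n) := by
        intro Q
        induction Q using LaurentPolynomial.induction_on' with
        | add p q hp hq => simp [map_add, hp, hq, add_mul]
        | C_mul_T m c =>
          rw [sR_C_T, coeff_CT, coeff_CT]
          rcases eq_or_ne m n with rfl | hne
          · rw [if_pos rfl, if_pos rfl]
          · rw [if_neg hne, if_neg hne, map_zero, zero_mul]
      have h2 := hco Q
      rw [hQ] at h2
      exact ((Units.mul_left_eq_zero _).1 h2.symm)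
    have hs : ∀ n : Q.coeff.support, ∃ N, ∀ M, N ≤ M → algebraMap B (L (f l)) (f k) ^ M * Q.coeff n = 0 := fun n => by
      have hz : ml (f l) (f k) (Q.coeff n) = 0 := by
        let c := lm (f := f k * f l) (D := L (f l * f k)) (by rw [mul_comm]; exact IsLocalization.Away.algebraMap_isUnit _)
        rw [show ml (f l) (f k) (Q.coeff n) = c (mr (f k) (f l) (Q.coeff n)) from
          apply_eq (ml (f l) (f k)) (c.comp (mr (f k) (f l))) _, hc, map_zero]
      obtain ⟨N, hN⟩ := exists_pow_mul_eq_zero (f l) (f k) _ hz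
      refine ⟨N, fun M hM => ?_⟩
      obtain ⟨d, rfl⟩ := Nat.exists_eq_add_of_le hM
      rw [pow_add, mul_comm (_ ^ N), mul_assoc, hN, mul_zero]
    obtain ⟨N, hN⟩ := exists_uniform hs
    refine ⟨N, fun M hM => LaurentPolynomial.ext fun n => ?_⟩
    rw [coeff_C_mul']
    by_cases hn : n ∈ Q.coeff.support
    · rw [hN ⟨n, hn⟩ M hM]; rfl
    · rw [Finsupp.notMem_support_iff.1 hn, mul_zero]; rfl
  obtain ⟨N, hN⟩ := exists_uniform hl
  refine ⟨N, ext_pr a fun l => ?_⟩
  rw [map_mul, map_pow, pr_algebraMap, ← map_pow, map_zero]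
  exact hN l N le_rfl

theorem exists_pow_mul_eq_pr (ha : IsCoc a) (k : κ) (Q : LP (f k)) :
    ∃ N, ∀ M, N ≤ M → ∃ P : Rg a, pr a k P = LaurentPolynomial.C (algebraMap B (L (f k)) (f k) ^ M) * Q := by
  classical
  induction Q using LaurentPolynomial.induction_on' with
  | add p q hp hq =>
    obtain ⟨N, hN⟩ := hp
    obtain ⟨N', hN'⟩ := hq
    refine ⟨max N N', fun M hM => ?_⟩
    obtain ⟨P, hP⟩ := hN M ((le_max_left _ _).trans hM)
    obtain ⟨P', hP'⟩ := hN' M ((le_max_right _ _).trans hM)
    exact ⟨P + P', by rw [map_add, hP, hP', mul_add]⟩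
  | C_mul_T n c =>
    have hswap : ∀ l, ∃ N, ∀ M, N ≤ M → ∃ x : L (f l),
        mr (f k) (f l) x = algebraMap B _ (f k) ^ M * (ml (f k) (f l) c * ↑((a k l) ^ n)) := by
      intro l
      let c₁ := lm (f := f k * f l) (D := L (f l * f k)) (by rw [mul_comm]; exact IsLocalization.Away.algebraMap_isUnit _)
      let c₂ := lm (f := f l * f k) (D := L (f k * f l)) (by rw [mul_comm]; exact IsLocalization.Away.algebraMap_isUnit _)
      obtain ⟨N, hN⟩ := exists_ml_eq (f l) (f k) (c₁ (ml (f k) (f l) c * ↑((a k l) ^ n)))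
      refine ⟨N, fun M hM => ?_⟩
      obtain ⟨x, hx⟩ := hN M hM
      refine ⟨x, ?_⟩
      rw [show mr (f k) (f l) x = c₂ (ml (f l) (f k) x) from apply_eq (mr (f k) (f l)) (c₂.comp (ml (f l) (f k))) x,
        hx, map_mul, map_pow, AlgHom.commutes]
      exact congrArg (algebraMap B _ (f k) ^ M * ·) (apply_eq (c₂.comp c₁) (AlgHom.id B _) _)
    obtain ⟨M, hM⟩ := exists_uniform hswap
    choose x hx using fun l => hM l M le_rfl
    -- the restrictions agree after multiplication by a power
    have heq : ∀ q : κ × κ, ∃ N, ∀ N', N ≤ N' →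
        algebraMap B (L (f q.1 * f q.2)) (f k) ^ N' * ml (f q.1) (f q.2) (x q.1) =
          algebraMap B (L (f q.1 * f q.2)) (f k) ^ N' * (mr (f q.1) (f q.2) (x q.2) * ↑((a q.1 q.2)⁻¹ ^ n)) := by
      rintro ⟨l, m⟩
      obtain ⟨N, hN⟩ := exists_pow_mul_eq (f l * f m) (f k) (ml (f l) (f m) (x l))
        (mr (f l) (f m) (x m) * ↑((a l m)⁻¹ ^ n)) (by
          let D := L (f l * f m * f k)
          have hlm := isUnit_left (f l * f m) (f k)
          have hk : IsUnit (algebraMap B D (f k)) := isUnit_right (f l * f m) (f k)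
          have hl : IsUnit (algebraMap B D (f l)) := (IsUnit.mul_iff.1 ((map_mul (algebraMap B D) _ _) ▸ hlm)).1
          have hm : IsUnit (algebraMap B D (f m)) := (IsUnit.mul_iff.1 ((map_mul (algebraMap B D) _ _) ▸ hlm)).2
          have e1 : ∀ (j : κ) (hj : IsUnit (algebraMap B D (f j))), lm hj (x j) =
              algebraMap B D (f k) ^ M * (lm hk c * ↑((um (lm (isUnit_mul hk hj)) (a k j)) ^ n)) := fun j hj => by
            rw [apply_eq (lm hj) ((lm (isUnit_mul hk hj)).comp (mr (f k) (f j))) (x j), AlgHom.comp_apply, hx,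
              map_mul, map_mul, map_pow, AlgHom.commutes, ← val_um, map_zpow]
            exact congrArg (fun z => algebraMap B D (f k) ^ M * (z * _))
              (apply_eq ((lm (isUnit_mul hk hj)).comp (ml (f k) (f j))) (lm hk) c)
          have hcoc : um (lm (isUnit_mul hk hl)) (a k l) * um (lm (isUnit_mul hl hm)) (a l m) =
              um (lm (isUnit_mul hk hm)) (a k m) := Units.ext (ha k l m D hk hl hm)
          rw [map_mul, ← AlgHom.comp_apply, apply_eq ((ml (f l * f m) (f k)).comp (ml (f l) (f m))) (lm hl),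
            ← AlgHom.comp_apply, apply_eq ((ml (f l * f m) (f k)).comp (mr (f l) (f m))) (lm hm), e1 l hl, e1 m hm,
            ← val_um, map_zpow, map_inv,
            show um (ml (f l * f m) (f k)) (a l m) = um (lm (isUnit_mul hl hm)) (a l m) from
              Units.ext (apply_eq _ _ _),
            ← hcoc, mul_zpow, inv_zpow, Units.val_mul]
          linear_combination (-(algebraMap B D (f k) ^ M * (lm hk c * ↑((um (lm (isUnit_mul hk hl)) (a k l)) ^ n)))) *
            Units.mul_inv ((um (lm (isUnit_mul hl hm)) (a l m)) ^ n))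
      refine ⟨N, fun N' hN' => ?_⟩
      obtain ⟨d, rfl⟩ := Nat.exists_eq_add_of_le hN'
      rw [pow_add, mul_comm (_ ^ N), mul_assoc, hN, ← mul_assoc]
    obtain ⟨N₂, hN₂⟩ := exists_uniform heq
    have hkk : ∀ y z : L (f k), ml (f k) (f k) y = ml (f k) (f k) z → y = z := fun y z h => by
      obtain ⟨N, hN⟩ := exists_pow_mul_eq (f k) (f k) y z h
      exact ((IsLocalization.Away.algebraMap_isUnit (f k)).pow N).mul_left_cancel hN
    have hakk : a k k = 1 := by
      have hu : IsUnit (algebraMap B (L (f k * f k)) (f k)) := isUnit_left (f k) (f k)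
      have h1 : um (lm (isUnit_mul hu hu)) (a k k) * um (lm (isUnit_mul hu hu)) (a k k) =
          um (lm (isUnit_mul hu hu)) (a k k) := Units.ext (ha k k k _ hu hu hu)
      have h2 : um (lm (isUnit_mul hu hu)) (a k k) = a k k :=
        Units.ext (apply_eq (lm (isUnit_mul hu hu)) (AlgHom.id B _) _)
      rw [h2] at h1
      exact mul_eq_right.1 h1
    refine ⟨M + N₂, fun M' hM' => ?_⟩
    obtain ⟨d, rfl⟩ := Nat.exists_eq_add_of_le hM'
    refine ⟨⟨fun l => LaurentPolynomial.C (algebraMap B (L (f l)) (f k) ^ (N₂ + d) * x l) * T n, fun l m => ?_⟩, ?_⟩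
    · rw [sL_C_T, sR_C_T]
      refine congrArg (fun z => LaurentPolynomial.C z * T n) ?_
      rw [map_mul (ml (f l) (f m)), map_mul (mr (f l) (f m)), map_pow, map_pow, AlgHom.commutes, AlgHom.commutes]
      exact (hN₂ (l, m) _ (Nat.le_add_right _ _)).trans (mul_assoc _ _ _).symm
    · show LaurentPolynomial.C (algebraMap B (L (f k)) (f k) ^ (N₂ + d) * x k) * T n = _
      rw [← mul_assoc, ← map_mul]
      congr 2
      refine hkk _ _ ?_
      rw [map_mul, map_mul, map_pow, map_pow, AlgHom.commutes,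
        apply_eq (ml (f k) (f k)) (mr (f k) (f k)) (x k), hx k, hakk, one_zpow, Units.val_one, mul_one, ← mul_assoc,
        ← pow_add]
      congr 2
      omega

end GmVanishLib
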