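import Groth.Agent.GmVanishLib.Ext
import Groth.Agent.GmExtLib.ExtShZero
import Groth.Agent.MultEqLib.Props
import Groth.Agent.DescHomLib.MultBC
import Groth.Agent.S8711

/-!
# Vanishing of the first Ext sheaf of finite and multiplicative groups
-/

set_option autoImplicit false
set_option maxHeartbeats 1000000
universe u

open CategoryTheory CategoryTheory.Limits AlgebraicGeometry Opposite MonoidalCategory CartesianMonoidalCategory
open GmExtLib AdeqLib AdeqModLib
open scoped MonObj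

noncomputable section

namespace GmVanishLib

variable {S T : Scheme.{u}} (j : T ⟶ S) {Q : Over S} [GrpObj Q] [IsCommMonObj Q]
  {P K : BigSite.Ab Scheme.fppfPrecoverage S} {g : P ⟶ K}
  (ψ : (CGrpSh.pts Scheme.fppfPrecoverage Q).over (Over.mk j) ⟶ K.over (Over.mk j))
  {T' : Scheme.{u}} (f : T' ⟶ T)

/-- The object over the cover member. -/
abbrev lowObj (W : Over (Over.mk (f ≫ j))) : Over T' := Over.mk W.hom.left

/-- The object over the piece. -/
abbrev midObj (W : Over (Over.mk (f ≫ j))) : Over T := (Over.map f).obj (lowObj j f W)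

/-- The comparison over the base. -/
def inMid (W : Over (Over.mk (f ≫ j))) : W.left ≅ sl j (midObj j f W) :=
  Over.isoMk (Iso.refl _) (by
    refine (Category.id_comp _).trans ?_
    show (W.hom.left ≫ f) ≫ j = W.left.hom
    rw [Category.assoc]
    exact Over.w W.hom)

theorem inMid_natural {W₁ W₂ : Over (Over.mk (f ≫ j))} (c : W₂ ⟶ W₁) :
    c.left ≫ (inMid j f W₁).hom = (inMid j f W₂).hom ≫
      slm j ((Over.map f).map (Over.homMk c.left.left (congrArg Over.Hom.left (Over.w c)) :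
        lowObj j f W₂ ⟶ lowObj j f W₁)) :=
  Over.OverMorphism.ext ((Category.comp_id _).trans (Category.id_comp _).symm)

variable {i : G S ⟶ P} {w : i ≫ g = 0} (hC : (ShortComplex.mk i g w).ShortExact)

/-- A splitting gives a lift. -/
theorem exists_lift_of_splitting {E : Over T} [GrpObj E] (v : E ⟶ Red.bc j Q)
    (Φ : ∀ Z : Over T, (Z ⟶ E) ≃ pairs j g ψ Z)
    (hmul : ∀ (Z : Over T) (a b : Z ⟶ E), Φ Z (a * b) = Φ Z a + Φ Z b)
    (hΦ : ∀ (Z Z' : Over T) (c : Z' ⟶ Z) (φ : Z ⟶ E), Φ Z' (c ≫ φ) = pullPair j g ψ c (Φ Z φ))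
    (hv : ∀ (Z : Over T) (φ : Z ⟶ E), (ExtGm.pts j Q Z).symm (φ ≫ v) = (Φ Z φ).1.1.down.toMul)
    (σ : Red.bc f (Red.bc j Q) ⟶ Red.bc f E) (hσ : IsMonHom σ)
    (hσv : σ ≫ (Over.pullback f).map v = 𝟙 _) (m : Over.mk (f ≫ j) ⟶ Over.mk j) (hm : m.left = f) :
    ∃ ψ' : (CGrpSh.pts Scheme.fppfPrecoverage Q).over (Over.mk (f ≫ j)) ⟶ P.over (Over.mk (f ≫ j)),
      (HomSh.homShMap (QuotSh.J Scheme.fppfPrecoverage S) (𝟙 (CGrpSh.pts Scheme.fppfPrecoverage Q)) g).hom.app
        (op (Over.mk (f ≫ j))) ψ' =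
      (HomSh.homSh (QuotSh.J Scheme.fppfPrecoverage S) (CGrpSh.pts Scheme.fppfPrecoverage Q) K).obj.map m.op ψ := by
  haveI := hσ
  let pe : ∀ W : Over (Over.mk (f ≫ j)), (W.left ⟶ Q) → (midObj j f W ⟶ E) := fun W x =>
    (ExtGm.pts f E (lowObj j f W)).symm
      (ExtGm.pts f (Red.bc j Q) (lowObj j f W) (ExtGm.pts j Q (midObj j f W) ((inMid j f W).inv ≫ x)) ≫ σ)
  have hpe_mul : ∀ W x y, pe W (x * y) = pe W x * pe W y := fun W x y => by
    have e1 : ExtGm.pts j Q (midObj j f W) ((inMid j f W).inv ≫ (x * y)) =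
        ExtGm.pts j Q _ ((inMid j f W).inv ≫ x) * ExtGm.pts j Q _ ((inMid j f W).inv ≫ y) :=
      (ExtGm.pts j Q _).symm.injective (by
        rw [ExtGm.pts_symm_mul, Equiv.symm_apply_apply, Equiv.symm_apply_apply, Equiv.symm_apply_apply,
          MonObj.comp_mul])
    have e2 : ∀ a b : midObj j f W ⟶ Red.bc j Q, ExtGm.pts f (Red.bc j Q) (lowObj j f W) (a * b) =
        ExtGm.pts f (Red.bc j Q) _ a * ExtGm.pts f (Red.bc j Q) _ b := fun a b =>
      (ExtGm.pts f _ _).symm.injective (by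
        rw [ExtGm.pts_symm_mul, Equiv.symm_apply_apply, Equiv.symm_apply_apply, Equiv.symm_apply_apply])
    simp only [pe]
    rw [e1, e2, MonObj.mul_comp, ExtGm.pts_symm_mul]
  have hpe_fst : ∀ W x, (Φ (midObj j f W) (pe W x)).1.1 = ptQ ((inMid j f W).inv ≫ x) := fun W x => by
    have h1 : pe W x ≫ v = ExtGm.pts j Q (midObj j f W) ((inMid j f W).inv ≫ x) := by
      simp only [pe]
      rw [← ExtGm.pts_symm_map, Category.assoc, hσv, Category.comp_id, Equiv.symm_apply_apply]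
    have h2 := hv (midObj j f W) (pe W x)
    rw [h1, Equiv.symm_apply_apply] at h2
    exact ULift.ext _ _ (congrArg Additive.ofMul h2.symm)
  have hpe_nat : ∀ {W₁ W₂ : Over (Over.mk (f ≫ j))} (c : W₂ ⟶ W₁) x,
      pe W₂ (c.left ≫ x) = (Over.map f).map (Over.homMk c.left.left (congrArg Over.Hom.left (Over.w c)) :
        lowObj j f W₂ ⟶ lowObj j f W₁) ≫ pe W₁ x := by
    intro W₁ W₂ c x
    let c' : lowObj j f W₂ ⟶ lowObj j f W₁ := Over.homMk c.left.left (congrArg Over.Hom.left (Over.w c))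
    show pe W₂ (c.left ≫ x) = (Over.map f).map c' ≫ pe W₁ x
    simp only [pe]
    rw [← ExtGm.pts_symm_comp, ← Category.assoc c']
    refine congrArg (fun z => (ExtGm.pts f E (lowObj j f W₂)).symm (z ≫ σ)) ?_
    apply (ExtGm.pts f (Red.bc j Q) _).symm.injective
    rw [ExtGm.pts_symm_comp, Equiv.symm_apply_apply, Equiv.symm_apply_apply]
    apply (ExtGm.pts j Q _).symm.injective
    rw [ExtGm.pts_symm_comp, Equiv.symm_apply_apply, Equiv.symm_apply_apply, ← Category.assoc, ← Category.assoc]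
    refine congrArg (· ≫ x) ?_
    rw [Iso.inv_comp_eq, ← Category.assoc, Iso.eq_comp_inv]
    exact inMid_natural j f c
  let val : ∀ W : (Over (Over.mk (f ≫ j)))ᵒᵖ,
      (CGrpSh.pts Scheme.fppfPrecoverage Q).obj.obj (op W.unop.left) → P.obj.obj (op W.unop.left) := fun W y =>
    P.obj.map (inMid j f W.unop).hom.op (Φ _ (pe W.unop y.down.toMul)).1.2
  have hadd : ∀ W y y', val W (y + y') = val W y + val W y' := fun W y y' => by
    show P.obj.map _ (Φ _ (pe W.unop (y.down.toMul * y'.down.toMul))).1.2 = _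
    rw [hpe_mul, hmul]
    exact map_add (P.obj.map (inMid j f W.unop).hom.op).hom _ _
  refine ⟨⟨{ app := fun W => AddCommGrpCat.ofHom (AddMonoidHom.mk' (val W) (hadd W))
             naturality := fun W₁ W₂ c => AddCommGrpCat.ext fun y => ?_ }⟩, ?_⟩
  · show P.obj.map _ (Φ _ (pe W₂.unop (c.unop.left ≫ y.down.toMul))).1.2 =
      P.obj.map c.unop.left.op (P.obj.map _ (Φ _ (pe W₁.unop y.down.toMul)).1.2)
    rw [hpe_nat c.unop, hΦ, pullPair_snd, map_map, map_map, inMid_natural]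
  · refine Sheaf.hom_ext (NatTrans.ext (funext fun W => AddCommGrpCat.ext fun y => ?_))
    show g.hom.app _ (P.obj.map _ (Φ _ (pe W.unop y.down.toMul)).1.2) =
      ψ.hom.app (op (Over.mk (W.unop.hom ≫ m))) y
    refine (NatTrans.naturality_apply g.hom (inMid j f W.unop).hom.op _).trans ?_
    rw [(mem_pairs j g ψ).1 (Φ _ _).2, hpe_fst]
    let a : (Over.mk (W.unop.hom ≫ m) : Over (Over.mk j)) ⟶ Over.mk (slb j (midObj j f W.unop)) :=
      Over.homMk (inMid j f W.unop).hom (Over.OverMorphism.ext (by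
        show 𝟙 _ ≫ W.unop.hom.left ≫ f = W.unop.hom.left ≫ m.left
        rw [hm]
        exact Category.id_comp _))
    refine (NatTrans.naturality_apply ψ.hom a.op (ptQ ((inMid j f W.unop).inv ≫ y.down.toMul))).symm.trans ?_
    refine congrArg (ψ.hom.app (op (Over.mk (W.unop.hom ≫ m)))) ?_
    show ptQ ((inMid j f W.unop).hom ≫ (inMid j f W.unop).inv ≫ y.down.toMul) = y
    rw [Iso.hom_inv_id_assoc]
    rfl

include hC in
/-- Homomorphisms out of a finite or multiplicative group lift locally. -/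
theorem imageSieve_mem (hQ : (IsFinite Q.hom ∧ Flat Q.hom ∧ LocallyOfFinitePresentation Q.hom) ∨
      SGA3x.IsMultTypeFT Q)
    (U : Over S) (φ : (CGrpSh.pts Scheme.fppfPrecoverage Q).over U ⟶ K.over U) :
    Presheaf.imageSieve (HomSh.homShMap (QuotSh.J Scheme.fppfPrecoverage S)
      (𝟙 (CGrpSh.pts Scheme.fppfPrecoverage Q)) g).hom φ ∈ QuotSh.J Scheme.fppfPrecoverage S U := by
  haveI : IsAffineHom Q.hom := by
    rcases hQ with ⟨h, -, -⟩ | h
    · haveI := h; infer_instance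
    · exact Groth.Agent.MultEq.isAffineHom_of_isMultTypeFT h
  let J' := QuotSh.J Scheme.fppfPrecoverage S
  have hcov : Sieve.ofArrows (fun x : U.left.affineCover.I₀ => Over.mk (U.left.affineCover.f x ≫ U.hom))
      (fun x => (Over.homMk (U.left.affineCover.f x) rfl : Over.mk (U.left.affineCover.f x ≫ U.hom) ⟶ U)) ∈ J' U := by
    refine ofArrows_mem _ ((Scheme.ofArrows_mem_precoverage_iff _).2 ⟨fun y => ?_, fun x => ?_⟩)
    · obtain ⟨j, z, hz⟩ := U.left.affineCover.exists_eq y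
      exact ⟨j, z, hz⟩
    · change (@Flat ⊓ @LocallyOfFinitePresentation : MorphismProperty Scheme.{u}) (U.left.affineCover.f x)
      exact ⟨inferInstance, inferInstance⟩
  refine J'.transitive hcov _ fun W r hr => ?_
  obtain ⟨x, a, rfl⟩ := (Sieve.mem_ofArrows_iff _ _ r).1 hr
  rw [Sieve.pullback_comp]
  refine J'.pullback_stable a ?_
  let T₀ : Scheme.{u} := U.left.affineCover.X x
  haveI : IsAffine T₀ := inferInstanceAs (IsAffine (U.left.affineCover.X x))
  let j₀ : T₀ ⟶ S := U.left.affineCover.f x ≫ U.hom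
  let k : Over.mk j₀ ⟶ U := Over.homMk (U.left.affineCover.f x) rfl
  let φ₀ : (CGrpSh.pts Scheme.fppfPrecoverage Q).over (Over.mk j₀) ⟶ K.over (Over.mk j₀) :=
    (HomSh.homSh J' (CGrpSh.pts Scheme.fppfPrecoverage Q) K).obj.map k.op φ
  haveI : IsAffineHom (Red.bc j₀ Q).hom := MorphismProperty.pullback_snd (P := @IsAffineHom) _ _ inferInstance
  haveI : IsAffine (Red.bc j₀ Q).left := isAffine_of_isAffineHom (Red.bc j₀ Q).hom
  obtain ⟨E, _, _, u, v, Φ, hex, hmul, hΦ, hv⟩ := exists_ext j₀ φ₀ hC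
  haveI : IsCommMonObj (Red.bc j₀ Q) := ExtGm.isCommMonObj_bc j₀
  have hQ' : (IsFinite (Red.bc j₀ Q).hom ∧ Flat (Red.bc j₀ Q).hom ∧ LocallyOfFinitePresentation (Red.bc j₀ Q).hom) ∨
      SGA3x.IsMultTypeFT (Red.bc j₀ Q) := hQ.imp (fun h => ⟨MorphismProperty.pullback_snd (P := @IsFinite) _ _ h.1,
        MorphismProperty.pullback_snd (P := @Flat) _ _ h.2.1,
        MorphismProperty.pullback_snd (P := @LocallyOfFinitePresentation) _ _ h.2.2⟩)
      fun h => Groth.Agent.DescHom.isMultTypeFT_bc h j₀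
  choose T' f hflat hfp hrange σ hσ hσv using Groth.Agent.S8711.result T₀ (Red.bc j₀ Q) E hQ' u v hex
  let m : ∀ s, Over.mk (f s ≫ j₀) ⟶ Over.mk j₀ := fun s => Over.homMk (f s) rfl
  have hcov' : Sieve.ofArrows _ m ∈ J' (Over.mk j₀) := by
    refine ofArrows_mem _ ((Scheme.ofArrows_mem_precoverage_iff _).2 ⟨fun y => ?_, fun s => ?_⟩)
    · obtain ⟨z, hz⟩ := hrange y
      exact ⟨y, z, hz⟩
    · change (@Flat ⊓ @LocallyOfFinitePresentation : MorphismProperty Scheme.{u}) (f s)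
      exact ⟨hflat s, hfp s⟩
  refine GrothendieckTopology.superset_covering _ ?_ hcov'
  rw [Sieve.ofArrows, Sieve.generate_le_iff]
  rintro _ _ ⟨s⟩
  obtain ⟨ψ', hψ'⟩ := exists_lift_of_splitting j₀ φ₀ (f s) v Φ hmul hΦ hv (σ s) (hσ s) (hσv s) (m s) rfl
  refine ⟨ψ', hψ'.trans ?_⟩
  exact map_map (P := HomSh.homSh J' (CGrpSh.pts Scheme.fppfPrecoverage Q) K) (m s) k φ

/-- The first Ext sheaf of a finite flat group or a group of multiplicative type vanishes. -/
theorem isZero_extSh_one_of_finite_or_mult (hQ : (IsFinite Q.hom ∧ Flat Q.hom ∧ LocallyOfFinitePresentation Q.hom) ∨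
      SGA3x.IsMultTypeFT Q) :
    IsZero ((HomSh.extSh (QuotSh.J Scheme.fppfPrecoverage S) (CGrpSh.pts Scheme.fppfPrecoverage Q) 1).obj
      (CGrpSh2.Gm Scheme.fppfPrecoverage S)) :=
  isZero_extSh_one _ _ fun _ _ _ _ _ hC U φ => imageSieve_mem hC hQ U φ

end GmVanishLib
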