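import Groth.Agent.GmExtLib.ExtShZero
import Groth.Agent.GaBidualLib.DualExact
import Groth.Agent.GaBidualLib.OverInj

/-!
# Dévissage for the vanishing of the first Ext sheaf
-/

set_option autoImplicit false
set_option backward.isDefEq.respectTransparency false
set_option maxHeartbeats 1000000
universe u

open CategoryTheory CategoryTheory.Limits AlgebraicGeometry Opposite

noncomputable section

namespace GmVanishLib

variable {S : Scheme.{u}}

local notation "Jf" => QuotSh.J Scheme.fppfPrecoverage S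

/-- Homomorphisms into quotients of injective sheaves by the multiplicative group lift locally. -/
def LiftsLoc (F : BigSite.Ab Scheme.fppfPrecoverage S) : Prop :=
  ∀ (I K : BigSite.Ab Scheme.fppfPrecoverage S) (i : GmExtLib.G S ⟶ I) (g : I ⟶ K) (w : i ≫ g = 0),
    Injective I → (ShortComplex.mk i g w).ShortExact → ∀ (U : Over S) (ψ : F.over U ⟶ K.over U),
      Presheaf.imageSieve (HomSh.homShMap Jf (𝟙 F) g).hom ψ ∈ Jf U

section general

universe v₁ v₂ u₁ u₂

variable {C : Type u₁} [Category.{v₁} C] [Abelian C] [HasInjectiveResolutions C] {D : Type u₂} [Category.{v₂} D]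
  [Abelian D] (Φ : C ⥤ D) [Φ.Additive] (X : C)

/-- The first derived functor vanishes when quotients of injective objects stay surjective. -/
theorem isZero_rightDerived_one_of_injective
    (hker : ∀ {K P Q : C} (k : K ⟶ P) (d : P ⟶ Q) (w : k ≫ d = 0) [Mono k], (ShortComplex.mk k d w).Exact →
      ∀ w' : Φ.map k ≫ Φ.map d = 0, (ShortComplex.mk (Φ.map k) (Φ.map d) w').Exact)
    (hepi : ∀ {P K : C} (i : X ⟶ P) (g : P ⟶ K) (w : i ≫ g = 0), Injective P → (ShortComplex.mk i g w).ShortExact →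
      Epi (Φ.map g)) :
    IsZero ((Φ.rightDerived 1).obj X) := by
  let I := injectiveResolution X
  refine IsZero.of_iso ?_ (I.isoRightDerivedObj Φ 1)
  refine (HomologicalComplex.exactAt_iff_isZero_homology _ _).1 ?_
  rw [HomologicalComplex.exactAt_iff' _ 0 1 2 (CochainComplex.prev_nat_succ 0) (CochainComplex.next ℕ 1)]
  let d₀ := I.cocomplex.d 0 1
  let d₁ := I.cocomplex.d 1 2
  let p := kernel.lift d₁ d₀ (I.cocomplex.d_comp_d 0 1 2)
  have h1 : (ShortComplex.mk d₀ d₁ (I.cocomplex.d_comp_d 0 1 2)).Exact := I.exact_succ 0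
  haveI : Epi p := (ShortComplex.exact_iff_epi_kernel_lift (ShortComplex.mk d₀ d₁ _)).1 h1
  have hpk : p ≫ kernel.ι d₁ = d₀ := kernel.lift_ι _ _ _
  have hwp : I.ι.f 0 ≫ p = 0 := by
    refine (cancel_mono (kernel.ι d₁)).1 ?_
    rw [Category.assoc, hpk, zero_comp]
    exact I.ι_f_zero_comp_complex_d
  have h0 : (ShortComplex.mk (I.ι.f 0) d₀ I.ι_f_zero_comp_complex_d).Exact := I.exact₀
  have hses : (ShortComplex.mk (I.ι.f 0) p hwp).ShortExact :=
    { exact := by
        let φ : ShortComplex.mk (I.ι.f 0) p hwp ⟶ ShortComplex.mk (I.ι.f 0) d₀ I.ι_f_zero_comp_complex_d :=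
          { τ₁ := 𝟙 _, τ₂ := 𝟙 _, τ₃ := kernel.ι d₁
            comm₁₂ := (Category.id_comp _).trans (Category.comp_id _).symm
            comm₂₃ := (Category.id_comp _).trans hpk.symm }
        exact (ShortComplex.exact_iff_of_epi_of_isIso_of_mono φ).2 h0 }
  haveI := hepi _ _ _ (I.injective 0) hses
  have hk : (ShortComplex.mk (kernel.ι d₁) d₁ (kernel.condition d₁)).Exact :=
    ShortComplex.exact_of_f_is_kernel _ (kernelIsKernel d₁)
  let T₁ := ShortComplex.mk (Φ.map d₀) (Φ.map d₁) (by rw [← Φ.map_comp, I.cocomplex.d_comp_d, Φ.map_zero])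
  let T₂ := ShortComplex.mk (Φ.map (kernel.ι d₁)) (Φ.map d₁) (by rw [← Φ.map_comp, kernel.condition, Φ.map_zero])
  let φ : T₁ ⟶ T₂ :=
    { τ₁ := Φ.map p, τ₂ := 𝟙 _, τ₃ := 𝟙 _
      comm₁₂ := by
        rw [Category.comp_id]
        show Φ.map p ≫ Φ.map (kernel.ι d₁) = Φ.map d₀
        rw [← Φ.map_comp, hpk]
      comm₂₃ := by rw [Category.id_comp, Category.comp_id] }
  exact (ShortComplex.exact_iff_of_epi_of_isIso_of_mono φ).2 (hker _ _ _ hk _)

end general

/-- The first Ext sheaf vanishes when homomorphisms lift locally. -/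
theorem isZero_of_liftsLoc {F : BigSite.Ab Scheme.fppfPrecoverage S} (h : LiftsLoc F) :
    IsZero ((HomSh.extSh Jf F 1).obj (CGrpSh2.Gm Scheme.fppfPrecoverage S)) := by
  rw [HomSh.extSh_def]
  refine isZero_rightDerived_one_of_injective (HomSh.homShFunctor Jf F) _
    (fun k d w _ hex w' => GmExtLib.exact_homShMap F k d w hex w') (fun {P K} i g w hP hses => ?_)
  haveI : Sheaf.IsLocallySurjective (HomSh.homShMap Jf (𝟙 F) g) := ⟨fun {U} ψ => h P K i g w hP hses U ψ⟩
  exact (Sheaf.isLocallySurjective_iff_epi' AddCommGrpCat.{u + 1} (HomSh.homShMap Jf (𝟙 F) g)).1 inferInstance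

/-- A member of the image sieve gives a lift. -/
theorem exists_of_mem {F I K : BigSite.Ab Scheme.fppfPrecoverage S} {g : I ⟶ K} {U V : Over S} {k : V ⟶ U}
    {ψ : F.over U ⟶ K.over U} (h : Presheaf.imageSieve (HomSh.homShMap Jf (𝟙 F) g).hom ψ k) :
    ∃ χ : F.over V ⟶ I.over V, χ ≫ ((Jf).overPullback AddCommGrpCat.{u + 1} V).map g =
      ((Jf).overMapPullback AddCommGrpCat.{u + 1} k).map ψ := by
  obtain ⟨(χ : F.over V ⟶ I.over V), hχ⟩ := h
  refine ⟨χ, Eq.trans ?_ hχ⟩
  exact (Category.id_comp _).symm.trans (congrArg (· ≫ (χ ≫ ((Jf).overPullback AddCommGrpCat.{u + 1} V).map g))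
    (((Jf).overPullback AddCommGrpCat.{u + 1} V).map_id F).symm)

/-- A lift gives a member of the image sieve. -/
theorem mem_of_lift {F I K : BigSite.Ab Scheme.fppfPrecoverage S} {g : I ⟶ K} {U V : Over S} {k : V ⟶ U}
    {ψ : F.over U ⟶ K.over U} (χ : F.over V ⟶ I.over V) (hχ : χ ≫ ((Jf).overPullback AddCommGrpCat.{u + 1} V).map g =
      ((Jf).overMapPullback AddCommGrpCat.{u + 1} k).map ψ) :
    Presheaf.imageSieve (HomSh.homShMap Jf (𝟙 F) g).hom ψ k := by
  refine ⟨χ, Eq.trans ?_ hχ⟩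
  exact (congrArg (· ≫ (χ ≫ ((Jf).overPullback AddCommGrpCat.{u + 1} V).map g))
    (((Jf).overPullback AddCommGrpCat.{u + 1} V).map_id F)).trans (Category.id_comp _)

/-- Local lifting is invariant under isomorphisms. -/
theorem LiftsLoc.of_iso {F F' : BigSite.Ab Scheme.fppfPrecoverage S} (h : LiftsLoc F') (e : F ≅ F') :
    LiftsLoc F := by
  intro I K i g w hI hses U ψ
  let O := fun V : Over S => (Jf).overPullback AddCommGrpCat.{u + 1} V
  refine (Jf).superset_covering ?_ (h I K i g w hI hses U ((O U).map e.inv ≫ ψ))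
  intro V k hk
  obtain ⟨χ, hχ⟩ := exists_of_mem hk
  refine mem_of_lift ((O V).map e.hom ≫ χ) ?_
  refine (Category.assoc _ _ _).trans ((congrArg ((O V).map e.hom ≫ ·) hχ).trans ?_)
  rw [Functor.map_comp]
  refine (Category.assoc _ _ _).symm.trans ?_
  refine (congrArg (· ≫ ((Jf).overMapPullback AddCommGrpCat.{u + 1} k).map ψ)
    (((O V).map_comp e.hom e.inv).symm.trans ((congrArg (O V).map e.hom_inv_id).trans ((O V).map_id F)))).trans ?_
  exact Category.id_comp _

/-- Local lifting passes to extensions. -/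
theorem LiftsLoc.of_shortExact {T : ShortComplex (BigSite.Ab Scheme.fppfPrecoverage S)} (hT : T.ShortExact)
    (h₁ : LiftsLoc T.X₁) (h₃ : LiftsLoc T.X₃) : LiftsLoc T.X₂ := by
  intro I K i g w hI hses U ψ
  let O := fun V : Over S => (Jf).overPullback AddCommGrpCat.{u + 1} V
  let R := fun {V W : Over S} (k : W ⟶ V) => (Jf).overMapPullback AddCommGrpCat.{u + 1} k
  refine (Jf).transitive (h₁ I K i g w hI hses U ((O U).map T.f ≫ ψ)) _ fun V k hk => ?_
  obtain ⟨α, hα⟩ := exists_of_mem hk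
  have hTV := GaBidualLib.shortExact_over Jf hT V
  haveI : Injective (I.over V) := GaBidualLib.OverInj.injective_over V I
  let fV : T.X₁.over V ⟶ T.X₂.over V := (O V).map T.f
  haveI : Mono fV := hTV.mono_f
  let β : T.X₂.over V ⟶ I.over V := Injective.factorThru α fV
  have hβ : fV ≫ β = α := Injective.comp_factorThru α fV
  let ψV : T.X₂.over V ⟶ K.over V := (R k).map ψ
  have hα' : α ≫ (O V).map g = fV ≫ ψV := hα.trans ((R k).map_comp ((O U).map T.f) ψ)
  have hz : fV ≫ (ψV - β ≫ (O V).map g) = 0 := by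
    rw [Preadditive.comp_sub, ← Category.assoc, hβ, hα', sub_self]
  haveI := hTV.epi_g
  let φ : T.X₃.over V ⟶ K.over V := hTV.exact.desc (ψV - β ≫ (O V).map g) hz
  have hφ : (O V).map T.g ≫ φ = ψV - β ≫ (O V).map g := hTV.exact.g_desc _ hz
  refine (Jf).superset_covering ?_ (h₃ I K i g w hI hses V φ)
  intro W k' hk'
  obtain ⟨γ₀, hγ⟩ := exists_of_mem hk'
  show Presheaf.imageSieve (HomSh.homShMap Jf (𝟙 T.X₂) g).hom ψ (k' ≫ k)
  let β' : T.X₂.over W ⟶ I.over W := (R k').map β
  let δ : T.X₂.over W ⟶ I.over W := (O W).map T.g ≫ γ₀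
  let χ : T.X₂.over W ⟶ I.over W := β' + δ
  refine mem_of_lift χ ?_
  have h1 : (R k').map ψV = ((R (k' ≫ k)).map ψ : T.X₂.over W ⟶ K.over W) :=
    GmExtLib.map_map (P := HomSh.homSh Jf T.X₂ K) k' k ψ
  have h2 : (R k').map ((O V).map T.g ≫ φ) = (O W).map T.g ≫ (R k').map φ := (R k').map_comp _ _
  have h3 : (R k').map (β ≫ (O V).map g) = (R k').map β ≫ (O W).map g := (R k').map_comp _ _
  have h4 : ψV = β ≫ (O V).map g + (O V).map T.g ≫ φ := by rw [hφ, add_sub_cancel]
  show χ ≫ (O W).map g = (R (k' ≫ k)).map ψ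
  rw [← h1, h4, Functor.map_add]
  refine Eq.trans ?_ (congrArg₂ (· + ·) h3 h2).symm
  refine (Preadditive.add_comp _ _ _ β' δ ((O W).map g)).trans ?_
  exact congrArg (fun z => β' ≫ (O W).map g + z) ((Category.assoc _ _ _).trans (congrArg ((O W).map T.g ≫ ·) hγ))

end GmVanishLib
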