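import Groth.Agent.GmVanishLib.Devissage
import Groth.Agent.GmExtLib.FieldLift
import Groth.Agent.AlgSpLib.Fppf

/-!
# Lifting over spectra of fields
-/

set_option autoImplicit false
set_option backward.isDefEq.respectTransparency false
set_option maxHeartbeats 1000000
universe u

open CategoryTheory CategoryTheory.Limits AlgebraicGeometry Opposite

noncomputable section

namespace GmVanishLib

variable {S : Scheme.{u}}

local notation "Jf" => QuotSh.J Scheme.fppfPrecoverage S

/-- Homomorphisms into quotients of injective sheaves by the multiplicative group lift locally over fields. -/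
def LiftsFld (F : BigSite.Ab Scheme.fppfPrecoverage S) : Prop :=
  ∀ (I K : BigSite.Ab Scheme.fppfPrecoverage S) (i : GmExtLib.G S ⟶ I) (g : I ⟶ K) (w : i ≫ g = 0),
    Injective I → (ShortComplex.mk i g w).ShortExact → ∀ (A : CommRingCat.{u}) (_ : IsField A) (b : Spec A ⟶ S)
      (ψ : F.over (Over.mk b) ⟶ K.over (Over.mk b)),
      Presheaf.imageSieve (HomSh.homShMap Jf (𝟙 F) g).hom ψ ∈ Jf (Over.mk b)

theorem LiftsFld.of_liftsLoc {F : BigSite.Ab Scheme.fppfPrecoverage S} (h : LiftsLoc F) : LiftsFld F :=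
  fun I K i g w hI hses _ _ b ψ => h I K i g w hI hses (Over.mk b) ψ

/-- A covering of the spectrum of a field is refined by the spectrum of a finite extension. -/
theorem exists_fieldPt {A : CommRingCat.{u}} (hA : IsField A) (b : Spec A ⟶ S) {R : Sieve (Over.mk b)}
    (hR : R ∈ Jf (Over.mk b)) :
    ∃ (A' : CommRingCat.{u}) (b' : Spec A' ⟶ S) (k : Over.mk b' ⟶ Over.mk b), IsField A' ∧ R k ∧
      LocallyOfFinitePresentation k.left ∧
      Sieve.ofArrows (fun _ : PUnit.{u + 1} => Over.mk b') (fun _ => k) ∈ Jf (Over.mk b) := by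
  letI := hA.toField
  change R ∈ (Scheme.fppfTopology.over S) (Over.mk b) at hR
  rw [GrothendieckTopology.mem_over_iff] at hR
  haveI : (@Flat ⊓ @LocallyOfFinitePresentation : MorphismProperty Scheme.{u}).IsMultiplicative :=
    { id_mem := fun X => ⟨inferInstanceAs (Flat (𝟙 X)), inferInstanceAs (LocallyOfFinitePresentation (𝟙 X))⟩
      comp_mem := fun f g hf hg => ⟨MorphismProperty.comp_mem _ f g hf.1 hg.1, MorphismProperty.comp_mem _ f g hf.2 hg.2⟩ }
  obtain ⟨𝒰, h𝒰⟩ := Scheme.exists_cover_of_mem_grothendieckTopology hR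
  obtain ⟨hsurj, hprop⟩ := (Scheme.ofArrows_mem_precoverage_iff _).1 𝒰.mem₀
  haveI : Nonempty ↥(Spec A) := ⟨(⊥ : PrimeSpectrum A)⟩
  obtain ⟨j, x, -⟩ := hsurj (Classical.arbitrary ↥(Spec A))
  haveI : LocallyOfFinitePresentation (𝒰.f j) := (hprop j).2
  obtain ⟨_, ⟨W, hW, rfl⟩, hxW, -⟩ := (𝒰.X j).isBasis_affineOpens.exists_subset_of_mem_open (Set.mem_univ x) isOpen_univ
  obtain ⟨φ, hφ⟩ := Spec.map_surjective (hW.fromSpec ≫ 𝒰.f j)
  haveI hoi := hW.isOpenImmersion_fromSpec
  have hlfp : LocallyOfFinitePresentation (Spec.map φ) := by rw [hφ]; infer_instance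
  have hfp : φ.hom.FinitePresentation := (HasRingHomProperty.Spec_iff (P := @LocallyOfFinitePresentation)).1 hlfp
  letI := φ.hom.toAlgebra
  haveI : Algebra.FinitePresentation A Γ(𝒰.X j, W) := hfp
  haveI : Nonempty ↥(Spec Γ(𝒰.X j, W)) := ⟨hW.primeIdealOf ⟨x, hxW⟩⟩
  haveI : Nontrivial Γ(𝒰.X j, W) := PrimeSpectrum.nonempty_iff_nontrivial.1 ‹_›
  obtain ⟨m, hm⟩ := Ideal.exists_maximal Γ(𝒰.X j, W)
  let A' := CommRingCat.of (Γ(𝒰.X j, W) ⧸ m)
  have hA' : IsField A' := Ideal.Quotient.maximal_ideal_iff_isField_quotient m |>.1 hm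
  let t : Spec A' ⟶ 𝒰.X j := Spec.map (CommRingCat.ofHom (Ideal.Quotient.mk m)) ≫ hW.fromSpec
  let b' : Spec A' ⟶ S := (t ≫ 𝒰.f j) ≫ b
  let k : Over.mk b' ⟶ Over.mk b := Over.homMk (t ≫ 𝒰.f j) rfl
  refine ⟨A', b', k, hA', ?_, ?_⟩
  swap
  · refine ⟨?_, ?_⟩
    · show LocallyOfFinitePresentation (t ≫ 𝒰.f j)
      letI := hA'.toField
      let ψ : A ⟶ A' := φ ≫ CommRingCat.ofHom (Ideal.Quotient.mk m)
      have hk : t ≫ 𝒰.f j = Spec.map ψ := by
        rw [Spec.map_comp, hφ]
        exact Category.assoc _ _ _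
      letI : Algebra A A' := ψ.hom.toAlgebra
      haveI : Algebra.FiniteType A A' := Algebra.FiniteType.of_surjective
        ({ Ideal.Quotient.mk m with commutes' := fun r => rfl } : Γ(𝒰.X j, W) →ₐ[A] A') Ideal.Quotient.mk_surjective
      rw [hk]
      exact (HasRingHomProperty.Spec_iff (P := @LocallyOfFinitePresentation)).2
        (RingHom.finitePresentation_algebraMap.2 (Algebra.FinitePresentation.of_finiteType.1 inferInstance))
    letI := hA'.toField
    let ψ : A ⟶ A' := φ ≫ CommRingCat.ofHom (Ideal.Quotient.mk m)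
    have hk : t ≫ 𝒰.f j = Spec.map ψ := by
      rw [Spec.map_comp, hφ]
      exact Category.assoc _ _ _
    letI : Algebra A A' := ψ.hom.toAlgebra
    haveI : Algebra.FiniteType A A' := Algebra.FiniteType.of_surjective
      ({ Ideal.Quotient.mk m with commutes' := fun r => rfl } : Γ(𝒰.X j, W) →ₐ[A] A') Ideal.Quotient.mk_surjective
    refine AlgSpLib.ofArrows_mem_J (fun _ : PUnit.{u + 1} => k) (fun _ => ?_) (fun _ => ?_) (fun y => ⟨PUnit.unit, ?_⟩)
    · show Flat (t ≫ 𝒰.f j)
      rw [hk]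
      haveI : Module.Free A A' := Module.Free.of_divisionRing A A'
      exact (HasRingHomProperty.Spec_iff (P := @Flat)).2 (RingHom.flat_algebraMap_iff.2 Module.Flat.of_free)
    · show LocallyOfFinitePresentation (t ≫ 𝒰.f j)
      rw [hk]
      exact (HasRingHomProperty.Spec_iff (P := @LocallyOfFinitePresentation)).2
        (RingHom.finitePresentation_algebraMap.2 (Algebra.FinitePresentation.of_finiteType.1 inferInstance))
    · haveI : Subsingleton ↥(Spec A) := inferInstanceAs (Subsingleton (PrimeSpectrum A))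
      exact ⟨(⊥ : PrimeSpectrum A'), Subsingleton.elim (α := ↥(Spec A)) _ _⟩
  · have h1 := (Sieve.overEquiv_iff R _).1 (h𝒰 _ _ (Presieve.ofArrows.mk j))
    exact R.downward_closed h1 (Over.homMk t (Category.assoc _ _ _).symm : Over.mk b' ⟶ Over.mk (𝒰.f j ≫ b))

/-- Coverings of spectra of fields are tested on spectra of fields. -/
theorem mem_of_fieldPt {A : CommRingCat.{u}} (hA : IsField A) (b : Spec A ⟶ S) {R R' : Sieve (Over.mk b)}
    (hR : R ∈ Jf (Over.mk b)) (h : ∀ (A' : CommRingCat.{u}) (_ : IsField A') (b' : Spec A' ⟶ S)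
      (k : Over.mk b' ⟶ Over.mk b), R k → R'.pullback k ∈ Jf (Over.mk b')) : R' ∈ Jf (Over.mk b) := by
  obtain ⟨A', b', k, hA', hk, -, hcov⟩ := exists_fieldPt hA b hR
  refine (Jf).transitive hcov _ fun Z f hf => ?_
  obtain ⟨_, a, rfl⟩ := (Sieve.mem_ofArrows_iff _ _ f).1 hf
  rw [Sieve.pullback_comp]
  exact (Jf).pullback_stable a (h A' hA' b' k hk)

/-- Local lifting over fields is invariant under isomorphisms. -/
theorem LiftsFld.of_iso {F F' : BigSite.Ab Scheme.fppfPrecoverage S} (h : LiftsFld F') (e : F ≅ F') :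
    LiftsFld F := by
  intro I K i g w hI hses A hA b ψ
  let O := fun V : Over S => (Jf).overPullback AddCommGrpCat.{u + 1} V
  refine (Jf).superset_covering ?_ (h I K i g w hI hses A hA b ((O (Over.mk b)).map e.inv ≫ ψ))
  intro V k hk
  obtain ⟨χ, hχ⟩ := exists_of_mem hk
  refine mem_of_lift ((O V).map e.hom ≫ χ) ?_
  refine (Category.assoc _ _ _).trans ((congrArg ((O V).map e.hom ≫ ·) hχ).trans ?_)
  rw [Functor.map_comp]
  refine (Category.assoc _ _ _).symm.trans ?_
  refine (congrArg (· ≫ ((Jf).overMapPullback AddCommGrpCat.{u + 1} k).map ψ)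
    (((O V).map_comp e.hom e.inv).symm.trans ((congrArg (O V).map e.hom_inv_id).trans ((O V).map_id F)))).trans ?_
  exact Category.id_comp _

/-- Local lifting over fields passes to extensions. -/
theorem LiftsFld.of_shortExact {T : ShortComplex (BigSite.Ab Scheme.fppfPrecoverage S)} (hT : T.ShortExact)
    (h₁ : LiftsFld T.X₁) (h₃ : LiftsFld T.X₃) : LiftsFld T.X₂ := by
  intro I K i g w hI hses A hA b ψ
  let U := Over.mk b
  let O := fun V : Over S => (Jf).overPullback AddCommGrpCat.{u + 1} V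
  let R := fun {V W : Over S} (k : W ⟶ V) => (Jf).overMapPullback AddCommGrpCat.{u + 1} k
  refine mem_of_fieldPt hA b (h₁ I K i g w hI hses A hA b ((O U).map T.f ≫ ψ)) fun A' hA' b' k hk => ?_
  let V := Over.mk b'
  obtain ⟨α, hα⟩ := exists_of_mem hk
  have hTV := GaBidualLib.shortExact_over Jf hT V
  haveI : Injective (I.over V) := GaBidualLib.OverInj.injective_over V I
  let fV : T.X₁.over V ⟶ T.X₂.over V := (O V).map T.f
  haveI : Mono fV := hTV.mono_f
  let β : T.X₂.over V ⟶ I.over V := Injective.factorThru α fV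
  have hβ : fV ≫ β = α := Injective.comp_factorThru α fV
  let ψV : T.X₂.over V ⟶ K.over V := (R k).map ψ
  have hα' : α ≫ (O V).map g = fV ≫ ψV := hα.trans ((R k).map_comp ((O U).map T.f) ψ)
  have hz : fV ≫ (ψV - β ≫ (O V).map g) = 0 := by
    rw [Preadditive.comp_sub, ← Category.assoc, hβ, hα', sub_self]
  haveI := hTV.epi_g
  let φ : T.X₃.over V ⟶ K.over V := hTV.exact.desc (ψV - β ≫ (O V).map g) hz
  have hφ : (O V).map T.g ≫ φ = ψV - β ≫ (O V).map g := hTV.exact.g_desc _ hz
  refine (Jf).superset_covering ?_ (h₃ I K i g w hI hses A' hA' b' φ)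
  intro W k' hk'
  obtain ⟨γ₀, hγ⟩ := exists_of_mem hk'
  show Presheaf.imageSieve (HomSh.homShMap Jf (𝟙 T.X₂) g).hom ψ (k' ≫ k)
  let β' : T.X₂.over W ⟶ I.over W := (R k').map β
  let δ : T.X₂.over W ⟶ I.over W := (O W).map T.g ≫ γ₀
  let χ : T.X₂.over W ⟶ I.over W := β' + δ
  refine mem_of_lift χ ?_
  have h1 : (R k').map ψV = ((R (k' ≫ k)).map ψ : T.X₂.over W ⟶ K.over W) :=
    GmExtLib.map_map (P := HomSh.homSh Jf T.X₂ K) k' k ψ
  have h2 : (R k').map ((O V).map T.g ≫ φ) = (O W).map T.g ≫ (R k').map φ := (R k').map_comp _ _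
  have h3 : (R k').map (β ≫ (O V).map g) = (R k').map β ≫ (O W).map g := (R k').map_comp _ _
  have h4 : ψV = β ≫ (O V).map g + (O V).map T.g ≫ φ := by rw [hφ, add_sub_cancel]
  show χ ≫ (O W).map g = (R (k' ≫ k)).map ψ
  rw [← h1, h4, Functor.map_add]
  refine Eq.trans ?_ (congrArg₂ (· + ·) h3 h2).symm
  refine (Preadditive.add_comp _ _ _ β' δ ((O W).map g)).trans ?_
  exact congrArg (fun z => β' ≫ (O W).map g + z) ((Category.assoc _ _ _).trans (congrArg ((O W).map T.g ≫ ·) hγ))

/-- An image sieve is a covering when it is one after an isomorphism. -/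
theorem imageSieve_mem_of_iso {C : Type*} [Category C] (J : GrothendieckTopology C) {P P' : Cᵒᵖ ⥤ AddCommGrpCat.{u + 1}}
    (θ : P ⟶ P') {X Y : C} (e : Y ≅ X) (s : P'.obj (op X)) (h : Presheaf.imageSieve θ (P'.map e.hom.op s) ∈ J Y) :
    Presheaf.imageSieve θ s ∈ J X := by
  refine J.superset_covering ?_ (J.pullback_stable e.inv h)
  rintro W k ⟨t, ht⟩
  refine ⟨t, ht.trans ?_⟩
  rw [← ConcreteCategory.comp_apply, ← Functor.map_comp, ← op_comp, Category.assoc, Iso.inv_hom_id, Category.comp_id]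

/-- The additive group. -/
theorem liftsFld_Ga : LiftsFld (CGrpSh2.Ga Scheme.fppfPrecoverage S) := by
  intro I K i g w _ hses A hA b ψ
  exact imageSieve_mem_of_iso Jf (HomSh.homShMap Jf (𝟙 (CGrpSh2.Ga Scheme.fppfPrecoverage S)) g).hom
    (GmExtLib.topIso b) ψ (GmExtLib.imageSieve_mem_Ga_field hA b hses _)

end GmVanishLib
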