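import Groth.Agent.GmVanishLib.Pairs
import Groth.Prelude.Def_NonAbH2

/-!
# The extension attached to a homomorphism into a quotient sheaf
-/

set_option autoImplicit false
set_option maxHeartbeats 1000000
universe u

open CategoryTheory CategoryTheory.Limits AlgebraicGeometry Opposite MonoidalCategory CartesianMonoidalCategory
open GmExtLib AdeqLib AdeqModLib
open scoped MonObj

noncomputable section

namespace GmVanishLib

variable {S T : Scheme.{u}} (j : T ⟶ S) {Q : Over S} [GrpObj Q] [IsCommMonObj Q]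
  {P K : BigSite.Ab Scheme.fppfPrecoverage S} {g : P ⟶ K}
  (ψ : (CGrpSh.pts Scheme.fppfPrecoverage Q).over (Over.mk j) ⟶ K.over (Over.mk j))
  {i : G S ⟶ P} {w : i ≫ g = 0} (hC : (ShortComplex.mk i g w).ShortExact)

include hC in
/-- Sections of the quotient map exist locally on the group. -/
theorem exists_local_lifts [IsAffine (Red.bc j Q).left] :
    ∃ (I : Type) (W : I → Over T) (m : ∀ a, W a ⟶ Red.bc j Q),
      Presieve.ofArrows (fun a => (W a).left) (fun a => (m a).left) ∈ Scheme.fppfPrecoverage (Red.bc j Q).left ∧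
      ∀ a, ∃ z : pairs j g ψ (W a), (ExtGm.pts j Q (W a)).symm (m a) = z.1.1.down.toMul := by
  let QA := Red.bc j Q
  let x₀ : sl j QA ⟶ Q := (ExtGm.pts j Q QA).symm (𝟙 QA)
  let bB : Spec Γ(QA.left, ⊤) ⟶ S := QA.left.isoSpec.inv ≫ (sl j QA).hom
  let θ : top bB ≅ sl j QA := topIso bB ≪≫ Over.isoMk QA.left.isoSpec.symm rfl
  let sY : K.obj.obj (op (sl j QA)) := evψ j ψ QA (ptQ x₀)
  obtain ⟨n, f, hspan, d, hd⟩ := exists_lifts bB hC (K.obj.map θ.hom.op sY)
  let e : ∀ k, ao bB (L (f k)) ⟶ sl j QA := fun k => toBase bB (L (f k)) ≫ θ.hom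
  let W : Fin n → Over T := fun k => Over.mk (e k ≫ slb j QA).left
  let m : ∀ k, W k ⟶ QA := fun k => Over.homMk (e k).left rfl
  refine ⟨Fin n, W, m, ?_, fun k => ?_⟩
  · refine (Scheme.ofArrows_mem_precoverage_iff _).2 ⟨fun y => ?_, fun k => ?_⟩
    · obtain ⟨k, hk⟩ : ∃ k, f k ∉ (QA.left.isoSpec.hom y : PrimeSpectrum Γ(QA.left, ⊤)).asIdeal := by
        by_contra hne
        push Not at hne
        have : Ideal.span (Set.range f) ≤ (QA.left.isoSpec.hom y : PrimeSpectrum Γ(QA.left, ⊤)).asIdeal :=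
          Ideal.span_le.2 (by rintro _ ⟨k, rfl⟩; exact hne k)
        exact (QA.left.isoSpec.hom y : PrimeSpectrum Γ(QA.left, ⊤)).isPrime.ne_top (top_le_iff.1 (hspan ▸ this))
      obtain ⟨z, hz⟩ : (QA.left.isoSpec.hom y : PrimeSpectrum Γ(QA.left, ⊤)) ∈
          Set.range (PrimeSpectrum.comap (algebraMap Γ(QA.left, ⊤) (L (f k)))) := by
        rw [PrimeSpectrum.localization_away_comap_range (L (f k)) (f k)]; exact hk
      refine ⟨k, z, ?_⟩
      show (θ.hom.left) ((toBase bB (L (f k))).left z) = y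
      refine (congrArg θ.hom.left hz).trans ?_
      exact congr($(QA.left.isoSpec.hom_inv_id) y)
    · haveI : IsOpenImmersion (toBase bB (L (f k))).left :=
        AlgebraicGeometry.IsOpenImmersion.of_isLocalization (S := L (f k)) (f k)
      haveI : IsIso θ.hom.left := ((Over.forget S).mapIso θ).isIso_hom
      change (@Flat ⊓ @LocallyOfFinitePresentation : MorphismProperty Scheme.{u}) ((toBase bB (L (f k))).left ≫ θ.hom.left)
      exact ⟨inferInstance, inferInstance⟩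
  · let c : sl j (W k) ⟶ ao bB (L (f k)) := Over.homMk (𝟙 _) (by
      refine (Category.id_comp _).trans ?_
      exact (Over.w (e k ≫ slb j QA)).symm)
    have hm : slm j (m k) = c ≫ e k := Over.OverMorphism.ext (Category.id_comp _).symm
    have hmem : (ptQ (slm j (m k) ≫ x₀), P.obj.map c.op (d k)) ∈ pairs j g ψ (W k) := by
      rw [mem_pairs]
      show g.hom.app (op (sl j (W k))) (P.obj.map c.op (d k)) = evψ j ψ (W k) (ptQ (slm j (m k) ≫ x₀))
      rw [NatTrans.naturality_apply g.hom c.op, hd, map_map, map_map, Category.assoc]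
      show K.obj.map (c ≫ e k).op sY = _
      rw [← hm, show sY = evψ j ψ QA (ptQ x₀) from rfl, ← evψ_natural j ψ (m k), pt_natural]
    refine ⟨⟨_, hmem⟩, ?_⟩
    show (ExtGm.pts j Q (W k)).symm (m k) = slm j (m k) ≫ x₀
    rw [← ExtGm.pts_symm_comp, Category.comp_id]

include hC in
theorem gmPair_mem (Z : Over T) (t : (G S).obj.obj (op (sl j Z))) :
    ((0 : (CGrpSh.pts Scheme.fppfPrecoverage Q).obj.obj (op (sl j Z))), i.hom.app (op (sl j Z)) t) ∈
      pairs j g ψ Z := by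
  rw [mem_pairs, map_zero]
  exact app_comp_zero (C := ShortComplex.mk i g w) _ _

/-- The unit attached to a point of the multiplicative group. -/
def unitSec (Z : Over T) (t : Z ⟶ Red.Gm T) : (G S).obj.obj (op (sl j Z)) :=
  gSec (sl j Z) ((GmPts.unitOfPt (S := T) (T := Z) t : (Γ(Z.left, ⊤))ˣ) : (Γ((sl j Z).left, ⊤))ˣ)

theorem unitSec_mul (Z : Over T) (s t : Z ⟶ Red.Gm T) : unitSec j Z (s * t) = unitSec j Z s + unitSec j Z t := by
  unfold unitSec
  rw [GmPts.unitOfPt_mul]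
  exact gSec_mul _ _ _

theorem map_unitSec {Z Z' : Over T} (c : Z' ⟶ Z) (t : Z ⟶ Red.Gm T) :
    (G S).obj.map (slm j c).op (unitSec j Z t) = unitSec j Z' (c ≫ t) := by
  unfold unitSec
  rw [GmPts.unitOfPt_comp, map_gSec]
  rfl

theorem unitSec_bijective (Z : Over T) : Function.Bijective (unitSec j Z) := by
  have h : unitSec j Z = gSec (sl j Z) ∘ (GmPts.equiv Z) := rfl
  rw [h]
  exact (gSec_bijective (S := S) (sl j Z)).comp (GmPts.equiv Z).bijective

include hC in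
/-- Pairs with the same point differ by a unit. -/
theorem exists_unit_diff (Z : Over T) (a b : pairs j g ψ Z) (h : a.1.1 = b.1.1) :
    ∃! t : Z ⟶ Red.Gm T, a + ⟨_, gmPair_mem j ψ hC Z (unitSec j Z t)⟩ = b := by
  haveI := hC.mono_f
  obtain ⟨y, hy⟩ := exists_preimage_app hC (op (sl j Z)) (b.1.2 - a.1.2) (by
    show g.hom.app _ _ = 0
    rw [map_sub, (mem_pairs j g ψ).1 b.2, (mem_pairs j g ψ).1 a.2, h, sub_self])
  obtain ⟨t₀, rfl⟩ := (unitSec_bijective j Z).2 y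
  refine ⟨t₀, Subtype.ext (Prod.ext ((add_zero _).trans h) ?_), fun t ht => ?_⟩
  · exact (congrArg (a.1.2 + ·) hy).trans (add_sub_cancel _ _)
  · refine (unitSec_bijective j Z).1 (injective_app i _ ?_)
    refine Eq.trans ?_ hy.symm
    exact eq_sub_of_add_eq' (congrArg (fun z : pairs j g ψ Z => z.1.2) ht)

include hC in
/-- The extension. -/
theorem exists_ext [IsAffine (Red.bc j Q).left] :
    ∃ (E : Over T) (_ : GrpObj E) (_ : IsCommMonObj E) (u : Red.Gm T ⟶ E) (v : E ⟶ Red.bc j Q)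
      (Φ : ∀ Z : Over T, (Z ⟶ E) ≃ pairs j g ψ Z),
      NonAbH1.IsExactSeq Scheme.fppfPrecoverage u v ∧
      (∀ (Z : Over T) (a b : Z ⟶ E), Φ Z (a * b) = Φ Z a + Φ Z b) ∧
      (∀ (Z Z' : Over T) (c : Z' ⟶ Z) (φ : Z ⟶ E), Φ Z' (c ≫ φ) = pullPair j g ψ c (Φ Z φ)) ∧
      ∀ (Z : Over T) (φ : Z ⟶ E), (ExtGm.pts j Q Z).symm (φ ≫ v) = (Φ Z φ).1.1.down.toMul := by
  haveI := hC.mono_f
  obtain ⟨E, Φ, hΦ⟩ := exists_repr j g ψ hC
  let α : (pairsF j g ψ ⋙ forget GrpCat.{u + 1}).RepresentableBy E :=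
    { homEquiv := fun {Z} => (Φ Z).trans Multiplicative.ofAdd
      homEquiv_comp := fun {Z Z'} c φ => congrArg Multiplicative.ofAdd (hΦ Z' Z c φ) }
  letI : GrpObj E := GrpObj.ofRepresentableBy E (pairsF j g ψ) α
  have hmul : ∀ (Z : Over T) (a b : Z ⟶ E), Φ Z (a * b) = Φ Z a + Φ Z b := fun Z a b => by
    have hμ : Φ (E ⊗ E) μ[E] = Φ (E ⊗ E) (fst E E) + Φ (E ⊗ E) (snd E E) := by
      show Φ (E ⊗ E) ((Φ (E ⊗ E)).symm (Φ (E ⊗ E) (fst E E) + Φ (E ⊗ E) (snd E E))) = _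
      exact Equiv.apply_symm_apply _ _
    rw [Hom.mul_def, hΦ, hμ, map_add, ← hΦ, ← hΦ, lift_fst, lift_snd]
  haveI : IsCommMonObj E := by
    refine ⟨?_⟩
    rw [show μ[E] = fst E E * snd E E by rw [Hom.mul_def, lift_fst_snd, Category.id_comp]]
    simp only [MonObj.comp_mul, braiding_hom_fst, braiding_hom_snd]
    apply (Φ _).injective
    rw [hmul, hmul, add_comm]
  let v : E ⟶ Red.bc j Q := ExtGm.pts j Q E ((Φ E (𝟙 E)).1.1.down.toMul)
  have hv : ∀ (Z : Over T) (φ : Z ⟶ E), (ExtGm.pts j Q Z).symm (φ ≫ v) = (Φ Z φ).1.1.down.toMul := fun Z φ => by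
    rw [ExtGm.pts_symm_comp, Equiv.symm_apply_apply]
    conv_rhs => rw [← Category.comp_id φ, hΦ]
    rfl
  have hv' : ∀ (Z : Over T) (a b : Z ⟶ E), a ≫ v = b ≫ v ↔ (Φ Z a).1.1 = (Φ Z b).1.1 := fun Z a b => by
    rw [← (ExtGm.pts j Q Z).symm.injective.eq_iff, hv, hv]
    exact ⟨fun h => ULift.ext _ _ (congrArg Additive.ofMul h), fun h => by rw [h]⟩
  let p₀ : ∀ Z : Over T, (Z ⟶ Red.Gm T) → pairs j g ψ Z := fun Z t => ⟨_, gmPair_mem j ψ hC Z (unitSec j Z t)⟩
  let u : Red.Gm T ⟶ E := (Φ _).symm (p₀ _ (𝟙 _))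
  have hu : ∀ (Z : Over T) (t : Z ⟶ Red.Gm T), Φ Z (t ≫ u) = p₀ Z t := fun Z t => by
    rw [hΦ, Equiv.apply_symm_apply]
    refine Subtype.ext (Prod.ext ?_ ?_)
    · exact map_zero ((CGrpSh.pts Scheme.fppfPrecoverage Q).obj.map (slm j t).op).hom
    · rw [pullPair_snd]
      show P.obj.map (slm j t).op (i.hom.app _ (unitSec j _ (𝟙 _))) = i.hom.app _ (unitSec j Z t)
      rw [← NatTrans.naturality_apply i.hom (slm j t).op, map_unitSec, Category.comp_id]
  have hp₀ : ∀ (Z : Over T) (s t : Z ⟶ Red.Gm T), p₀ Z (s * t) = p₀ Z s + p₀ Z t := fun Z s t => by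
    refine Subtype.ext (Prod.ext (add_zero _).symm ?_)
    show i.hom.app _ (unitSec j Z (s * t)) = i.hom.app _ (unitSec j Z s) + i.hom.app _ (unitSec j Z t)
    rw [unitSec_mul, map_add]
  have humon : IsMonHom u := ExtGm.isMonHom_of_mul u fun Z a b => (Φ Z).injective (by rw [hmul, hu, hu, hu, hp₀])
  have hvmon : IsMonHom v := ExtGm.isMonHom_of_mul v fun Z a b => (ExtGm.pts j Q Z).symm.injective (by
    rw [hv, ExtGm.pts_symm_mul, hv, hv, hmul]
    rfl)
  have huv : u ≫ v = 1 := (ExtGm.pts j Q _).symm.injective (by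
    rw [hv, ExtGm.pts_symm_one, show Φ _ u = p₀ _ (𝟙 _) from Equiv.apply_symm_apply _ _]
    rfl)
  have hker : ∀ (Z : Over T) (a b : Z ⟶ E), a ≫ v = b ≫ v → ∃! t : Z ⟶ Red.Gm T, a * (t ≫ u) = b := by
    intro Z a b hab
    obtain ⟨t₀, ht₀, huniq⟩ := exists_unit_diff j ψ hC Z (Φ Z a) (Φ Z b) ((hv' Z a b).1 hab)
    have key : ∀ t, a * (t ≫ u) = b ↔ Φ Z a + p₀ Z t = Φ Z b := fun t => by
      rw [← (Φ Z).injective.eq_iff, hmul, hu]
    exact ⟨t₀, (key t₀).2 ht₀, fun t ht => huniq t ((key t).1 ht)⟩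
  refine ⟨E, inferInstance, inferInstance, u, v, Φ, ⟨humon, hvmon, huv, ?_, ?_⟩, hmul, hΦ, hv⟩
  · haveI := hvmon
    have hmid : (E ◁ u) ≫ μ[E] = fst E (Red.Gm T) * (snd E (Red.Gm T) ≫ u) := by
      rw [MonObj.mul_eq_mul, MonObj.comp_mul, whiskerLeft_fst, whiskerLeft_snd]
    have hw : fst E (Red.Gm T) ≫ v = ((E ◁ u) ≫ μ[E]) ≫ v := by
      rw [hmid, MonObj.mul_comp, Category.assoc, huv, MonObj.comp_one, _root_.mul_one]
    refine IsPullback.of_isLimit' ⟨hw⟩ (PullbackCone.isLimitAux' _ fun s => ?_)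
    let t := (hker s.pt s.fst s.snd s.condition).choose
    have ht : s.fst * (t ≫ u) = s.snd ∧ ∀ t', s.fst * (t' ≫ u) = s.snd → t' = t :=
      (hker s.pt s.fst s.snd s.condition).choose_spec
    refine ⟨lift s.fst t, lift_fst _ _, ?_, fun {m} h₁ h₂ => ?_⟩
    · show lift s.fst t ≫ (E ◁ u) ≫ μ[E] = s.snd
      rw [hmid, MonObj.comp_mul, lift_fst, lift_snd_assoc, ht.1]
    · refine CartesianMonoidalCategory.hom_ext _ _ (by rw [lift_fst]; exact h₁) ?_
      rw [lift_snd]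
      refine ht.2 _ ?_
      have h₂' : (m ≫ fst E (Red.Gm T)) * (m ≫ snd E (Red.Gm T) ≫ u) = s.snd := by
        refine Eq.trans ?_ h₂
        refine Eq.trans ?_ (congrArg (m ≫ ·) hmid).symm
        exact (MonObj.comp_mul _ _ _).symm
      rw [Category.assoc]
      exact (congrArg (· * _) h₁.symm).trans h₂'
  · obtain ⟨I, W, m, hmem', hlift⟩ := exists_local_lifts j ψ hC
    refine ⟨_, hmem', ?_⟩
    rintro S' _ ⟨a⟩
    obtain ⟨z, hz⟩ := hlift a
    refine ⟨((Φ (W a)).symm z).left, ?_⟩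
    show ((Φ (W a)).symm z).left ≫ v.left = (m a).left
    rw [← Over.comp_left]
    refine congrArg Over.Hom.left ((ExtGm.pts j Q (W a)).symm.injective ?_)
    rw [hv, Equiv.apply_symm_apply, hz]

end GmVanishLib
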