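import Groth.Agent.GmVanishLib.Seq
import Groth.Agent.GaGmKerLib.GaPts
import Groth.Agent.AntiAffLib.AffineQuot
import Groth.Agent.ExtGmLib.Finite
import Groth.Agent.GmExtLib.Line
import Groth.Agent.DeligneKillLib.Affine
import Groth.Agent.UnipHopfLib.Primitive
import Mathlib.RingTheory.AdjoinRoot

/-!
# The map to the additive group attached to a primitive function
-/

set_option autoImplicit false
set_option backward.isDefEq.respectTransparency false
set_option linter.style.haveILetI false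
set_option maxHeartbeats 1000000
universe u

open CategoryTheory CategoryTheory.Limits MonoidalCategory CartesianMonoidalCategory AlgebraicGeometry Opposite CoactBr
open scoped MonObj TensorProduct

attribute [local instance] CoactBr.braidedAlgSpecOf
attribute [-instance] CategoryTheory.Hom.commGroup

noncomputable section

namespace GmVanishLib

variable {k : Type u} [Field k]

/-- A morphism out of an affine group is a homomorphism when it respects the two projections. -/
theorem isMonHom_of_pair {A : Type u} [CommRing A] [HopfAlgebra k A] {G : Over (Spec (CommRingCat.of k))} [GrpObj G]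
    (f : sp k A ⟶ G)
    (h : (pt (Algebra.TensorProduct.includeLeft : A →ₐ[k] A ⊗[k] A) * pt Algebra.TensorProduct.includeRight) ≫ f =
      (pt (Algebra.TensorProduct.includeLeft : A →ₐ[k] A ⊗[k] A) ≫ f) *
        (pt (Algebra.TensorProduct.includeRight : A →ₐ[k] A ⊗[k] A) ≫ f)) : IsMonHom f := by
  refine ExtGm.isMonHom_of_mul f fun Z a b => ?_
  let z : Z ⟶ sp k (A ⊗[k] A) := lift a b ≫ inv (ExtGm.pair k A A)
  have hz : z ≫ ExtGm.pair k A A = lift a b := by rw [Category.assoc, IsIso.inv_hom_id, Category.comp_id]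
  have ha : z ≫ pt (Algebra.TensorProduct.includeLeft : A →ₐ[k] A ⊗[k] A) = a := by
    have := congrArg (· ≫ fst _ _) hz
    simpa using this
  have hb : z ≫ pt (Algebra.TensorProduct.includeRight : A →ₐ[k] A ⊗[k] A) = b := by
    have := congrArg (· ≫ snd _ _) hz
    simpa using this
  have h' := congrArg (z ≫ ·) h
  simp only [MonObj.comp_mul] at h'
  rw [← Category.assoc, MonObj.comp_mul, ha, hb, ← Category.assoc, ← Category.assoc, ha, hb] at h'
  exact h'

theorem gaFn_pt_comp {A C : Type u} [CommRing A] [CommRing C] [Algebra k A] [Algebra k C]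
    (f : sp k A ⟶ Red.Ga (Spec (CommRingCat.of k))) (x : A)
    (hf : Red.gaFn f = (Scheme.ΓSpecIso (CommRingCat.of A)).inv x) (α : A →ₐ[k] C) :
    Red.gaFn (pt α ≫ f) = (Scheme.ΓSpecIso (CommRingCat.of C)).inv (α x) := by
  rw [Groth.Agent.GaPts.gaFn_comp, hf]
  exact (congr($(Scheme.ΓSpecIso_inv_naturality (CommRingCat.ofHom α.toRingHom)) x)).symm

/-- A primitive function gives a homomorphism to the additive group. -/
theorem exists_hom_of_primitive {A : Type u} [CommRing A] [HopfAlgebra k A] (x : A)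
    (hx : CoalgebraStruct.comul (R := k) x = x ⊗ₜ[k] (1 : A) + (1 : A) ⊗ₜ[k] x) :
    ∃ f : sp k A ⟶ Red.Ga (Spec (CommRingCat.of k)), IsMonHom f ∧
      Red.gaFn f = (Scheme.ΓSpecIso (CommRingCat.of A)).inv x := by
  let f : sp k A ⟶ Red.Ga (Spec (CommRingCat.of k)) :=
    Groth.Agent.GaPts.ptOf ((Scheme.ΓSpecIso (CommRingCat.of A)).inv x)
  have hf : Red.gaFn f = (Scheme.ΓSpecIso (CommRingCat.of A)).inv x := Groth.Agent.GaPts.gaFn_ptOf _
  refine ⟨f, isMonHom_of_pair f (Groth.Agent.GaPts.gaFn_injective ?_), hf⟩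
  show Red.gaFn _ = Red.gaFn _
  rw [Groth.Agent.DiagRep.pt_mul_conv, ← Groth.Agent.DiagRep.toConv_comul, WithConv.ofConv_toConv,
    gaFn_pt_comp f x hf, Groth.Agent.GaPts.gaFn_mul, gaFn_pt_comp f x hf, gaFn_pt_comp f x hf]
  exact (congrArg (Scheme.ΓSpecIso (CommRingCat.of (A ⊗[k] A))).inv.hom hx).trans
    (map_add (Scheme.ΓSpecIso (CommRingCat.of (A ⊗[k] A))).inv.hom _ _)

/-- A map with a trivial Hopf ideal is injective. -/
theorem isHopfIdeal_bot (A : Type u) [CommRing A] [HopfAlgebra k A] : (⊥ : Ideal A).IsHopfIdeal k := by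
  haveI : ((⊥ : Ideal A).restrictScalars k).IsCoideal :=
    ⟨fun x hx => by rw [show x = 0 from hx]; simp, fun x hx => by rw [show x = 0 from hx, map_zero]; exact map_zero _⟩
  exact ⟨fun x hx => by
    rw [show x = 0 from hx, map_zero]
    exact zero_mem _⟩

/-- The coordinate ring of the additive group has finite proper quotients. -/
theorem finite_quotient_of_ne_bot {H : Type u} [CommRing H] [Algebra k H]
    (v : sp k H ≅ Red.Ga (Spec (CommRingCat.of k))) (K : Ideal H) (hK : K ≠ ⊥) : Module.Finite k (H ⧸ K) := by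
  obtain ⟨e, -⟩ := GmExtLib.exists_lineIso (CommRingCat.of k)
  let c : sp k (Polynomial k) ≅ GmExtLib.ao (𝟙 (Spec (CommRingCat.of k))) (Polynomial k) :=
    Over.isoMk (Iso.refl _) ((Category.id_comp _).trans (Category.comp_id _))
  let w : sp k (Polynomial k) ≅ sp k H := c ≪≫ e ≪≫ v.symm
  obtain ⟨ψ, hψ⟩ := Groth.Agent.DiagRep.exists_pt w.hom
  obtain ⟨ψ', hψ'⟩ := Groth.Agent.DiagRep.exists_pt w.inv
  have h1 : ψ.comp ψ' = AlgHom.id k _ := pt_injective (by rw [pt_comp, ← hψ, ← hψ', Iso.hom_inv_id, pt_id])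
  have h2 : ψ'.comp ψ = AlgHom.id k _ := pt_injective (by rw [pt_comp, ← hψ, ← hψ', Iso.inv_hom_id, pt_id])
  obtain ⟨a, haK, ha⟩ := (Submodule.ne_bot_iff _).1 hK
  have hP : ψ a ≠ 0 := fun h => ha (by
    have := congrArg ψ' h
    rwa [map_zero, ← AlgHom.comp_apply, h2] at this)
  let P : Polynomial k := ψ a * Polynomial.C (ψ a).leadingCoeff⁻¹
  haveI : Module.Finite k (Polynomial k ⧸ Ideal.span {P}) :=
    Polynomial.Monic.finite_quotient (Polynomial.monic_mul_leadingCoeff_inv hP)
  let q : (Polynomial k ⧸ Ideal.span {P}) →ₐ[k] (H ⧸ K) :=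
    Ideal.Quotient.liftₐ _ ((Ideal.Quotient.mkₐ k K).comp ψ') fun y hy => by
      obtain ⟨d, rfl⟩ := Ideal.mem_span_singleton'.1 hy
      show Ideal.Quotient.mk K (ψ' (d * P)) = 0
      refine Ideal.Quotient.eq_zero_iff_mem.2 ?_
      have : ψ' (ψ a) = a := AlgHom.congr_fun h2 a
      rw [map_mul, map_mul, this]
      exact K.mul_mem_left _ (K.mul_mem_right _ haK)
  refine Module.Finite.of_surjective q.toLinearMap fun z => ?_
  obtain ⟨b, rfl⟩ := Ideal.Quotient.mk_surjective z
  refine ⟨Ideal.Quotient.mk _ (ψ b), ?_⟩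
  show Ideal.Quotient.mk K (ψ' (ψ b)) = _
  rw [← AlgHom.comp_apply, h2]
  rfl

/-- A nonzero primitive function gives a nontrivial map from the coordinate ring of the additive group. -/
theorem exists_bialgHom_of_primitive {A : Type u} [CommRing A] [HopfAlgebra k A] (x : A) (hx0 : x ≠ 0)
    (hx : CoalgebraStruct.comul (R := k) x = x ⊗ₜ[k] (1 : A) + (1 : A) ⊗ₜ[k] x)
    {H : Type u} [CommRing H] [HopfAlgebra k H] (v : sp k H ≅ Red.Ga (Spec (CommRingCat.of k)))
    (hv : IsMonHom v.hom) (hv' : IsMonHom v.inv) :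
    ∃ φ : H →ₐc[k] A, ∃ b : H, Coalgebra.counit (R := k) b = 0 ∧ φ b ≠ 0 := by
  haveI := hv; haveI := hv'
  obtain ⟨f, hfm, hf⟩ := exists_hom_of_primitive x hx
  haveI := hfm
  obtain ⟨φ, hφ⟩ := AntiAffLib.exists_bialgHom (f ≫ v.inv)
  refine ⟨φ, ?_⟩
  by_contra hne
  push Not at hne
  have h1 : (φ : H →ₐ[k] A) = (Algebra.ofId k A).comp (Bialgebra.counitAlgHom k H) := AlgHom.ext fun b => by
    have := hne (b - algebraMap k H (Coalgebra.counit (R := k) b)) (by simp)
    rw [map_sub, sub_eq_zero, AlgHomClass.commutes] at this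
    exact this
  rw [h1, Groth.Agent.DiagRep.pt_one] at hφ
  have h2 : f = 1 := by
    have h3 := congrArg (· ≫ v.hom) hφ
    simpa [MonObj.one_comp] using h3
  refine hx0 ((Scheme.ΓSpecIso (CommRingCat.of A)).commRingCatIsoToRingEquiv.symm.injective ?_)
  rw [map_zero]
  show (Scheme.ΓSpecIso (CommRingCat.of A)).inv x = 0
  rw [← hf, h2, Groth.Agent.GaPts.gaFn_one]

end GmVanishLib
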