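import Groth.Agent.GmVanishLib.Univ
import Groth.Agent.GmExtLib.Lift
import Groth.Agent.GmExtLib.ExtSheaf
import Groth.Agent.GaBidualLib.Sheaf

/-!
# The scheme of lifts of a section
-/

set_option autoImplicit false
set_option maxHeartbeats 1000000
universe u

open CategoryTheory CategoryTheory.Limits AlgebraicGeometry Opposite GmExtLib
open AdeqLib AdeqModLib

noncomputable section

namespace GmVanishLib

variable {S : Scheme.{u}} {A : CommRingCat.{u}} (b : Spec A ⟶ S) {n : ℕ} {f : Fin n → A}

/-- The localisation of an algebra. -/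
abbrev loc (C : Type u) [CommRing C] [Algebra A C] (k : Fin n) : C →ₐ[A] L (algebraMap A C (f k)) :=
  IsScalarTower.toAlgHom A C _

theorem isUnit_res (C : Type u) [CommRing C] [Algebra A C] (k : Fin n) :
    IsUnit (algebraMap A (L (algebraMap A C (f k))) (f k)) := by
  rw [IsScalarTower.algebraMap_apply A C (L (algebraMap A C (f k)))]
  exact IsLocalization.Away.algebraMap_isUnit _

/-- The localisation of the base mapped to an algebra. -/
def res (C : Type u) [CommRing C] [Algebra A C] (k : Fin n) : L (f k) →ₐ[A] L (algebraMap A C (f k)) :=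
  lm (isUnit_res C k)

theorem isUnit_res₂ (C : Type u) [CommRing C] [Algebra A C] (k l : Fin n) :
    IsUnit (algebraMap A (L (algebraMap A C (f k) * algebraMap A C (f l))) (f k * f l)) := by
  rw [IsScalarTower.algebraMap_apply A C (L (algebraMap A C (f k) * algebraMap A C (f l))), map_mul (algebraMap A C)]
  exact IsLocalization.Away.algebraMap_isUnit _

/-- The double localisation of the base mapped to an algebra. -/
def res₂ (C : Type u) [CommRing C] [Algebra A C] (k l : Fin n) :
    L (f k * f l) →ₐ[A] L (algebraMap A C (f k) * algebraMap A C (f l)) :=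
  lm (isUnit_res₂ C k l)

theorem res₂_eq (C : Type u) [CommRing C] [Algebra A C] (k l : Fin n) (x : L (f k * f l)) :
    res₂ C k l x = pm₂ (algebraMap A C) (f k) (f l) x := by
  have e : (res₂ (f := f) C k l).toRingHom = pm₂ (algebraMap A C) (f k) (f l) := by
    refine IsLocalization.ringHom_ext (Submonoid.powers (f k * f l)) (RingHom.ext fun y => ?_)
    show res₂ C k l (algebraMap A _ y) = pm₂ (algebraMap A C) (f k) (f l) (algebraMap A _ y)
    rw [pm₂_algebraMap, (res₂ (f := f) C k l).commutes]
    exact IsScalarTower.algebraMap_apply A C _ y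
  exact congrArg (fun φ : L (f k * f l) →+* L (algebraMap A C (f k) * algebraMap A C (f l)) => φ x) e

/-- The left restriction. -/
abbrev mlA (C : Type u) [CommRing C] [Algebra A C] (k l : Fin n) :
    L (algebraMap A C (f k)) →ₐ[A] L (algebraMap A C (f k) * algebraMap A C (f l)) :=
  (ml (algebraMap A C (f k)) (algebraMap A C (f l))).restrictScalars A

/-- The right restriction. -/
abbrev mrA (C : Type u) [CommRing C] [Algebra A C] (k l : Fin n) :
    L (algebraMap A C (f l)) →ₐ[A] L (algebraMap A C (f k) * algebraMap A C (f l)) :=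
  (mr (algebraMap A C (f k)) (algebraMap A C (f l))).restrictScalars A

theorem cover_loc_mem (hspan : Ideal.span (Set.range f) = ⊤) (C : Type u) [CommRing C] [Algebra A C] :
    Sieve.ofArrows _ (fun k => amap b (loc (f := f) C k)) ∈ QuotSh.J Scheme.fppfPrecoverage S (ao b C) := by
  have hs := span_push (algebraMap A C) hspan
  refine ofArrows_mem _ ((Scheme.ofArrows_mem_precoverage_iff _).2 ⟨fun y => ?_, fun k => ?_⟩)
  · obtain ⟨k, hk⟩ : ∃ k, algebraMap A C (f k) ∉ (y : PrimeSpectrum C).asIdeal := by
      by_contra hne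
      push Not at hne
      have : Ideal.span (Set.range fun k => algebraMap A C (f k)) ≤ (y : PrimeSpectrum C).asIdeal :=
        Ideal.span_le.2 (by rintro _ ⟨k, rfl⟩; exact hne k)
      exact (y : PrimeSpectrum C).isPrime.ne_top (top_le_iff.1 (hs ▸ this))
    obtain ⟨z, hz⟩ : (y : PrimeSpectrum C) ∈
        Set.range (PrimeSpectrum.comap (algebraMap C (L (algebraMap A C (f k))))) := by
      rw [PrimeSpectrum.localization_away_comap_range (L (algebraMap A C (f k))) (algebraMap A C (f k))]; exact hk
    exact ⟨k, z, hz⟩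
  · haveI : IsOpenImmersion (amap b (loc (f := f) C k)).left :=
      AlgebraicGeometry.IsOpenImmersion.of_isLocalization (S := L (algebraMap A C (f k))) (algebraMap A C (f k))
    change (@Flat ⊓ @LocallyOfFinitePresentation : MorphismProperty Scheme.{u}) (amap b (loc (f := f) C k)).left
    exact ⟨inferInstance, inferInstance⟩

/-- Two points over two charts factor through the double chart. -/
theorem exists_factor (C : Type u) [CommRing C] [Algebra A C] {Z : Over S} {k l : Fin n}
    (p : Z ⟶ ao b (L (algebraMap A C (f k)))) (q : Z ⟶ ao b (L (algebraMap A C (f l))))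
    (hpq : p ≫ amap b (loc C k) = q ≫ amap b (loc C l)) :
    ∃ z : Z ⟶ ao b (L (algebraMap A C (f k) * algebraMap A C (f l))),
      z ≫ amap b (mlA C k l) = p ∧ z ≫ amap b (mrA C k l) = q := by
  let e₀ : C →+* Γ(Z.left, ⊤) := ghom b (p ≫ amap b (loc C k))
  letI : Algebra C Γ(Z.left, ⊤) := e₀.toAlgebra
  have hgp : ∀ (m : Fin n) (v : Z ⟶ ao b (L (algebraMap A C (f m)))), v ≫ amap b (loc C m) = p ≫ amap b (loc C k) →
      IsUnit (algebraMap C Γ(Z.left, ⊤) (algebraMap A C (f m))) := fun m v hv => by
    have e1 : e₀ (algebraMap A C (f m)) = ghom b v (algebraMap C _ (algebraMap A C (f m))) := by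
      show ghom b (p ≫ amap b (loc C k)) _ = _
      rw [← hv]
      exact ghom_amap b v (loc C m) _
    exact e1.symm ▸ (IsLocalization.Away.algebraMap_isUnit (algebraMap A C (f m))).map (ghom b v)
  have hu := isUnit_mul (hgp k p rfl) (hgp l q hpq.symm)
  let z₀ : Z.left ⟶ (ao b (L (algebraMap A C (f k) * algebraMap A C (f l)))).left :=
    Z.left.toSpecΓ ≫ Spec.map (CommRingCat.ofHom (lm hu).toRingHom)
  have hz : ∀ (m : Fin n) (φ : L (algebraMap A C (f m)) →ₐ[C] L (algebraMap A C (f k) * algebraMap A C (f l)))
      (v : Z ⟶ ao b (L (algebraMap A C (f m)))), v ≫ amap b (loc C m) = p ≫ amap b (loc C k) →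
      z₀ ≫ (amap b (φ.restrictScalars A)).left = v.left := fun m φ v hv => by
    refine (Category.assoc _ _ _).trans ?_
    refine (congrArg (Z.left.toSpecΓ ≫ ·) (Spec.map_comp _ _).symm).trans ?_
    rw [eq_ghom b v]
    congr 2
    let fv : L (algebraMap A C (f m)) →ₐ[C] Γ(Z.left, ⊤) :=
      { ghom b v with commutes' := fun r => ((ghom_amap b v (loc C m) r).symm.trans
          (congrArg (fun k' : Z ⟶ ao b C => ghom b k' r) hv)) }
    ext x
    exact apply_eq ((lm hu).comp φ) fv x
  have h1 := hz k (ml _ _) p rfl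
  have h2 := hz l (mr _ _) q hpq.symm
  let z : Z ⟶ ao b (L (algebraMap A C (f k) * algebraMap A C (f l))) := Over.homMk z₀ (by
    rw [← Over.w (amap b (mlA C k l)), ← Category.assoc, h1, Over.w p])
  exact ⟨z, Over.OverMorphism.ext h1, Over.OverMorphism.ext h2⟩

variable {P Q : BigSite.Ab Scheme.fppfPrecoverage S} {i : G S ⟶ P} {g : P ⟶ Q} {w : i ≫ g = 0}
  (d : ∀ k, P.obj.obj (op (ao b (L (f k)))))

variable (i) in
/-- A lift over an algebra is described on the charts by the given lifts and units. -/
def Rel (C : Type u) [CommRing C] [Algebra A C] (t : P.obj.obj (op (ao b C)))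
    (e : ∀ k, (L (algebraMap A C (f k)))ˣ) : Prop :=
  ∀ k, P.obj.map (amap b (loc C k)).op t =
    P.obj.map (amap b (res C k)).op (d k) - i.hom.app _ (aSec b _ (e k))

section

variable (hC : (ShortComplex.mk i g w).ShortExact) (s : Q.obj.obj (op (top b)))
  (hd : ∀ k, g.hom.app _ (d k) = Q.obj.map (amap b (Algebra.ofId A (L (f k)))).op s)
  {a : ∀ k l, (L (f k * f l))ˣ} (ha : ∀ k l, i.hom.app _ (aSec b _ (a k l)) =
      P.obj.map (amap b (ml (f k) (f l))).op (d k) - P.obj.map (amap b (mr (f k) (f l))).op (d l))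
  (hspan : Ideal.span (Set.range f) = ⊤)

include ha in
theorem push_eq (C : Type u) [CommRing C] [Algebra A C] (k l : Fin n) :
    i.hom.app _ (aSec b _ (push (algebraMap A C) a k l)) =
      P.obj.map (amap b (mlA C k l)).op (P.obj.map (amap b (res C k)).op (d k)) -
        P.obj.map (amap b (mrA C k l)).op (P.obj.map (amap b (res C l)).op (d l)) := by
  rw [show push (algebraMap A C) a k l = Units.map (res₂ (f := f) C k l).toRingHom.toMonoidHom (a k l) from
    Units.ext (res₂_eq C k l _).symm, ← map_aSec, NatTrans.naturality_apply i.hom (amap b (res₂ (f := f) C k l)).op,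
    ha, map_sub, map_map, map_map, map_map, map_map, amap_comp, amap_comp, amap_comp, amap_comp,
    hom_eq ((res₂ (f := f) C k l).comp (ml (f k) (f l))) ((mlA C k l).comp (res C k)),
    hom_eq ((res₂ (f := f) C k l).comp (mr (f k) (f l))) ((mrA C k l).comp (res C l))]

include hC hd ha hspan in
theorem exists_of_wit (C : Type u) [CommRing C] [Algebra A C] (e : ∀ k, (L (algebraMap A C (f k)))ˣ)
    (he : IsWit a C e) :
    ∃ t, g.hom.app _ t = Q.obj.map (toBase b C).op s ∧ Rel b i d C t e := by
  let d' : ∀ k, P.obj.obj (op (ao b (L (algebraMap A C (f k))))) := fun k =>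
    P.obj.map (amap b (res C k)).op (d k) - i.hom.app _ (aSec b _ (e k))
  have hagree : ∀ k l, P.obj.map (amap b (mlA C k l)).op (d' k) = P.obj.map (amap b (mrA C k l)).op (d' l) := by
    intro k l
    have he' : push (algebraMap A C) a k l * Units.map (mrA C k l).toRingHom.toMonoidHom (e l) =
        Units.map (mlA C k l).toRingHom.toMonoidHom (e k) := Units.ext (he k l)
    simp only [d', map_sub]
    rw [← NatTrans.naturality_apply i.hom (amap b (mlA C k l)).op,
      ← NatTrans.naturality_apply i.hom (amap b (mrA C k l)).op, map_aSec, map_aSec, ← he', aSec_mul, map_add,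
      push_eq b d ha C k l]
    abel
  obtain ⟨t, ht⟩ := BigCohLib.p_glue P.property _ (cover_loc_mem b hspan C) d' fun k l Z p q hpq => by
    obtain ⟨z, hz1, hz2⟩ := exists_factor b C p q hpq
    rw [← hz1, ← hz2, ← map_map, ← map_map, hagree]
  refine ⟨t, sub_eq_zero.1 (BigCohLib.p_eq_zero Q.property _ (cover_loc_mem b hspan C) _ fun k => ?_), ht⟩
  rw [map_sub, sub_eq_zero]
  refine (NatTrans.naturality_apply g.hom _ t).symm.trans ?_
  rw [ht k]
  simp only [d', map_sub]
  have h0 : g.hom.app _ (i.hom.app (op (ao b (L (algebraMap A C (f k))))) (aSec b _ (e k))) = 0 :=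
    app_comp_zero (C := ShortComplex.mk i g w) _ _
  rw [h0, sub_zero, NatTrans.naturality_apply g.hom (amap b (res C k)).op, hd, map_map, map_map, amap_comp, amap_comp]
  exact congrArg (fun φ => Q.obj.map (amap b φ).op s) (Subsingleton.elim _ _)

include hC hd ha in
theorem exists_wit (C : Type u) [CommRing C] [Algebra A C] (t : P.obj.obj (op (ao b C)))
    (ht : g.hom.app _ t = Q.obj.map (toBase b C).op s) :
    ∃ e, IsWit a C e ∧ Rel b i d C t e := by
  haveI := hC.mono_f
  have h : ∀ k, ∃ v : (L (algebraMap A C (f k)))ˣ, i.hom.app _ (aSec b _ v) =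
      P.obj.map (amap b (res C k)).op (d k) - P.obj.map (amap b (loc C k)).op t := fun k => by
    obtain ⟨y, hy⟩ := exists_preimage_app hC _
      (P.obj.map (amap b (res C k)).op (d k) - P.obj.map (amap b (loc C k)).op t) (by
        show g.hom.app _ _ = 0
        rw [map_sub, NatTrans.naturality_apply g.hom (amap b (res C k)).op,
          NatTrans.naturality_apply g.hom (amap b (loc C k)).op, hd, ht, map_map, map_map, amap_comp, amap_comp,
          sub_eq_zero]
        exact congrArg (fun φ => Q.obj.map (amap b φ).op s) (Subsingleton.elim _ _))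
    obtain ⟨v, rfl⟩ := (aSec_bijective b _).2 y
    exact ⟨v, hy⟩
  choose e he using h
  refine ⟨e, fun k l => ?_, fun k => by rw [he k, sub_sub_cancel]⟩
  suffices hgoal : push (algebraMap A C) a k l * Units.map (mrA C k l).toRingHom.toMonoidHom (e l) =
      Units.map (mlA C k l).toRingHom.toMonoidHom (e k) from congrArg Units.val hgoal
  refine (aSec_bijective b _).1 (injective_app i _ ?_)
  rw [aSec_mul, map_add, push_eq b d ha C k l, ← map_aSec, ← map_aSec,
    NatTrans.naturality_apply i.hom (amap b (mrA C k l)).op, NatTrans.naturality_apply i.hom (amap b (mlA C k l)).op,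
    he, he, map_sub, map_sub, map_map, map_map, map_map, map_map, amap_comp, amap_comp, amap_comp, amap_comp,
    show (mlA C k l).comp (loc C k) = (mrA C k l).comp (loc C l) from AlgHom.ext fun x =>
      ((ml _ _).commutes x).trans ((mr _ _).commutes x).symm]
  abel

include hspan in
theorem eq_of_rel (C : Type u) [CommRing C] [Algebra A C] {t t' : P.obj.obj (op (ao b C))}
    {e : ∀ k, (L (algebraMap A C (f k)))ˣ} (h : Rel b i d C t e) (h' : Rel b i d C t' e) : t = t' :=
  sub_eq_zero.1 (BigCohLib.p_eq_zero P.property _ (cover_loc_mem b hspan C) _ fun k => by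
    rw [map_sub, h k, h' k, sub_self])

include hC in
theorem wit_unique (C : Type u) [CommRing C] [Algebra A C] {t : P.obj.obj (op (ao b C))}
    {e e' : ∀ k, (L (algebraMap A C (f k)))ˣ} (h : Rel b i d C t e) (h' : Rel b i d C t e') : e = e' := by
  haveI := hC.mono_f
  exact funext fun k => (aSec_bijective b _).1 (injective_app i _ (sub_right_injective ((h k).symm.trans (h' k))))

end

theorem Rel.natural {C C' : Type u} [CommRing C] [Algebra A C] [CommRing C'] [Algebra A C'] (ψ : C →ₐ[A] C')
    {t : P.obj.obj (op (ao b C))} {e : ∀ k, (L (algebraMap A C (f k)))ˣ} (h : Rel b i d C t e) :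
    Rel b i d C' (P.obj.map (amap b ψ).op t) (fun k => Units.map (qm ψ (f k)).toMonoidHom (e k)) := fun k => by
  have hcomm : ∀ r : A, qm ψ (f k) (algebraMap A (L (algebraMap A C (f k))) r) =
      algebraMap A (L (algebraMap A C' (f k))) r := fun r => by
    rw [IsScalarTower.algebraMap_apply A C (L (algebraMap A C (f k))), qm_algebraMap, ψ.commutes]
    exact (IsScalarTower.algebraMap_apply A C' _ r).symm
  let q : L (algebraMap A C (f k)) →ₐ[A] L (algebraMap A C' (f k)) := { qm ψ (f k) with commutes' := hcomm }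
  have hq : q.comp (loc C k) = (loc C' k).comp ψ := AlgHom.ext fun x => qm_algebraMap ψ (f k) x
  show _ = _ - i.hom.app _ (aSec b _ (Units.map q.toRingHom.toMonoidHom (e k)))
  rw [map_map, amap_comp, ← hq, ← amap_comp, ← map_map, h k, map_sub, map_map, amap_comp, ← map_aSec,
    NatTrans.naturality_apply i.hom (amap b q).op, hom_eq (q.comp (res C k)) (res C' k)]

end GmVanishLib
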