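import Groth.Agent.GmVanishLib.Repr
import Groth.Agent.ExtGmLib.Basic
import Groth.Prelude.Def_GmPts
import Mathlib.CategoryTheory.Monoidal.Cartesian.Grp

/-!
# The pairs of a point and a lift of its image
-/

set_option autoImplicit false
set_option maxHeartbeats 1000000
universe u

open CategoryTheory CategoryTheory.Limits AlgebraicGeometry Opposite MonoidalCategory CartesianMonoidalCategory
open GmExtLib AdeqLib AdeqModLib
open scoped MonObj

noncomputable section

namespace GmVanishLib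

variable {S T : Scheme.{u}} (j : T ⟶ S)

/-- An object over the piece, over the base. -/
abbrev sl (Z : Over T) : Over S := (Over.map j).obj Z

/-- The structure map to the piece. -/
abbrev slb (Z : Over T) : sl j Z ⟶ Over.mk j := Over.homMk Z.hom rfl

/-- The map induced over the base. -/
abbrev slm {Z Z' : Over T} (φ : Z' ⟶ Z) : sl j Z' ⟶ sl j Z := (Over.map j).map φ

theorem slm_slb {Z Z' : Over T} (φ : Z' ⟶ Z) : slm j φ ≫ slb j Z = slb j Z' :=
  Over.OverMorphism.ext (Over.w φ)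

/-- The induced map in the slice. -/
abbrev slo {Z Z' : Over T} (φ : Z' ⟶ Z) : (Over.mk (slb j Z') : Over (Over.mk j)) ⟶ Over.mk (slb j Z) :=
  Over.homMk (slm j φ) (slm_slb j φ)

variable {Q : Over S} [GrpObj Q] [IsCommMonObj Q] {P K : BigSite.Ab Scheme.fppfPrecoverage S}
  (g : P ⟶ K) (ψ : (CGrpSh.pts Scheme.fppfPrecoverage Q).over (Over.mk j) ⟶ K.over (Over.mk j))

/-- The point in the sheaf of points. -/
abbrev ptQ {Z : Over S} (x : Z ⟶ Q) : (CGrpSh.pts Scheme.fppfPrecoverage Q).obj.obj (op Z) :=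
  ULift.up (Additive.ofMul x)

/-- The value of the homomorphism. -/
def evψ (Z : Over T) : (CGrpSh.pts Scheme.fppfPrecoverage Q).obj.obj (op (sl j Z)) →+ K.obj.obj (op (sl j Z)) :=
  (ψ.hom.app (op (Over.mk (slb j Z)))).hom

theorem evψ_natural {Z Z' : Over T} (φ : Z' ⟶ Z)
    (x : (CGrpSh.pts Scheme.fppfPrecoverage Q).obj.obj (op (sl j Z))) :
    evψ j ψ Z' ((CGrpSh.pts Scheme.fppfPrecoverage Q).obj.map (slm j φ).op x) =
      K.obj.map (slm j φ).op (evψ j ψ Z x) :=
  NatTrans.naturality_apply ψ.hom (slo j φ).op x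

/-- Pairs of a point and a lift of its image. -/
def pairs (Z : Over T) :
    AddSubgroup ((CGrpSh.pts Scheme.fppfPrecoverage Q).obj.obj (op (sl j Z)) × P.obj.obj (op (sl j Z))) :=
  AddMonoidHom.eqLocus ((g.hom.app (op (sl j Z))).hom.comp (AddMonoidHom.snd _ _))
    ((evψ j ψ Z).comp (AddMonoidHom.fst _ _))

theorem mem_pairs {Z : Over T}
    {xy : (CGrpSh.pts Scheme.fppfPrecoverage Q).obj.obj (op (sl j Z)) × P.obj.obj (op (sl j Z))} :
    xy ∈ pairs j g ψ Z ↔ g.hom.app (op (sl j Z)) xy.2 = evψ j ψ Z xy.1 := Iff.rfl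

/-- Restriction of pairs. -/
def pullPair {Z Z' : Over T} (φ : Z' ⟶ Z) : pairs j g ψ Z →+ pairs j g ψ Z' :=
  (((((CGrpSh.pts Scheme.fppfPrecoverage Q).obj.map (slm j φ).op).hom).prodMap
    ((P.obj.map (slm j φ).op).hom)).comp (pairs j g ψ Z).subtype).codRestrict _ fun z => by
      show g.hom.app _ (P.obj.map (slm j φ).op z.1.2) = evψ j ψ Z' _
      rw [NatTrans.naturality_apply g.hom (slm j φ).op, (mem_pairs j g ψ).1 z.2]
      exact (evψ_natural j ψ φ _).symm

theorem pullPair_fst {Z Z' : Over T} (φ : Z' ⟶ Z) (z : pairs j g ψ Z) :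
    (pullPair j g ψ φ z).1.1 = (CGrpSh.pts Scheme.fppfPrecoverage Q).obj.map (slm j φ).op z.1.1 := rfl

theorem pullPair_snd {Z Z' : Over T} (φ : Z' ⟶ Z) (z : pairs j g ψ Z) :
    (pullPair j g ψ φ z).1.2 = P.obj.map (slm j φ).op z.1.2 := rfl

theorem pullPair_id {Z : Over T} (z : pairs j g ψ Z) : pullPair j g ψ (𝟙 Z) z = z := by
  refine Subtype.ext (Prod.ext ?_ ?_)
  · rw [pullPair_fst, slm, CategoryTheory.Functor.map_id, op_id, CategoryTheory.Functor.map_id]
    rfl
  · rw [pullPair_snd, slm, CategoryTheory.Functor.map_id, op_id, CategoryTheory.Functor.map_id]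
    rfl

theorem pullPair_comp {Z Z' Z'' : Over T} (φ : Z' ⟶ Z) (φ' : Z'' ⟶ Z') (z : pairs j g ψ Z) :
    pullPair j g ψ (φ' ≫ φ) z = pullPair j g ψ φ' (pullPair j g ψ φ z) := by
  refine Subtype.ext (Prod.ext ?_ ?_)
  · rw [pullPair_fst, pullPair_fst, pullPair_fst, slm, CategoryTheory.Functor.map_comp, map_map]
  · rw [pullPair_snd, pullPair_snd, pullPair_snd, slm, CategoryTheory.Functor.map_comp, map_map]

/-- The groups of pairs. -/
def pairsF : (Over T)ᵒᵖ ⥤ GrpCat.{u + 1} where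
  obj Z := GrpCat.of (Multiplicative (pairs j g ψ Z.unop))
  map φ := GrpCat.ofHom (pullPair j g ψ φ.unop).toMultiplicative
  map_id Z := GrpCat.hom_ext (MonoidHom.ext fun z => pullPair_id j g ψ z.toAdd)
  map_comp φ φ' := GrpCat.hom_ext (MonoidHom.ext fun z => pullPair_comp j g ψ φ.unop φ'.unop z.toAdd)

theorem pt_natural {Z Z' : Over T} (φ : Z' ⟶ Z) (x : sl j Z ⟶ Q) :
    (CGrpSh.pts Scheme.fppfPrecoverage Q).obj.map (slm j φ).op (ptQ x) = ptQ (slm j φ ≫ x) := rfl

/-- Points of the pullback are points over the base with a given map to the piece. -/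
theorem sl_hom_ext {Z : Over T} (w w' : sl j Z ⟶ sl j (Red.bc j Q))
    (h₁ : w ≫ slb j (Red.bc j Q) = slb j Z) (h₁' : w' ≫ slb j (Red.bc j Q) = slb j Z)
    (h₂ : w ≫ (ExtGm.pts j Q _).symm (𝟙 _) = w' ≫ (ExtGm.pts j Q _).symm (𝟙 _)) : w = w' := by
  let v : Z ⟶ Red.bc j Q := Over.homMk w.left (congrArg Over.Hom.left h₁)
  let v' : Z ⟶ Red.bc j Q := Over.homMk w'.left (congrArg Over.Hom.left h₁')
  have hv : slm j v = w := Over.OverMorphism.ext rfl
  have hv' : slm j v' = w' := Over.OverMorphism.ext rfl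
  have : v = v' := (ExtGm.pts j Q Z).symm.injective (by
    rw [← Category.comp_id v, ← Category.comp_id v', ExtGm.pts_symm_comp, ExtGm.pts_symm_comp]
    exact (congrArg (· ≫ (ExtGm.pts j Q _).symm (𝟙 _)) hv).trans (h₂.trans
      (congrArg (· ≫ (ExtGm.pts j Q _).symm (𝟙 _)) hv').symm))
  rw [← hv, ← hv', this]

variable {i : G S ⟶ P} {w : i ≫ g = 0} (hC : (ShortComplex.mk i g w).ShortExact)

include hC in
/-- The pairs are represented by a scheme over the piece. -/
theorem exists_repr [IsAffine (Red.bc j Q).left] :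
    ∃ (E : Over T) (Φ : ∀ Z : Over T, (Z ⟶ E) ≃ pairs j g ψ Z),
      ∀ (Z Z' : Over T) (c : Z' ⟶ Z) (φ : Z ⟶ E), Φ Z' (c ≫ φ) = pullPair j g ψ c (Φ Z φ) := by
  let QA := Red.bc j Q
  let x₀ : sl j QA ⟶ Q := (ExtGm.pts j Q QA).symm (𝟙 QA)
  let bB : Spec Γ(QA.left, ⊤) ⟶ S := QA.left.isoSpec.inv ≫ (sl j QA).hom
  let θ : top bB ≅ sl j QA := topIso bB ≪≫ Over.isoMk QA.left.isoSpec.symm rfl
  let sY : K.obj.obj (op (sl j QA)) := evψ j ψ QA (ptQ x₀)
  obtain ⟨R, _, _, t₀, hg₀, huniv⟩ := exists_univ bB hC (K.obj.map θ.hom.op sY)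
  let e : ao bB R ⟶ sl j QA := toBase bB R ≫ θ.hom
  let E : Over T := Over.mk (e ≫ slb j QA).left
  let c : sl j E ⟶ ao bB R := Over.homMk (𝟙 _) (by
    refine (Category.id_comp _).trans ?_
    exact (Over.w (e ≫ slb j QA)).symm)
  have hc : c ≫ e ≫ slb j QA = slb j E := Over.OverMorphism.ext (Category.id_comp _)
  have hw₀ : ∀ {Z : Over T} (x : sl j Z ⟶ Q), slm j (ExtGm.pts j Q Z x) ≫ x₀ = x := fun {Z} x => by
    rw [← ExtGm.pts_symm_comp, Category.comp_id, Equiv.symm_apply_apply]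
  have hmem : (ptQ (c ≫ e ≫ x₀), P.obj.map c.op t₀) ∈ pairs j g ψ E := by
    let v : E ⟶ QA := ExtGm.pts j Q E (c ≫ e ≫ x₀)
    have hv : slm j v = c ≫ e := sl_hom_ext j _ _ (slm_slb j v) (by rw [Category.assoc, hc])
      ((hw₀ _).trans (Category.assoc _ _ _).symm)
    rw [mem_pairs]
    show g.hom.app (op (sl j E)) (P.obj.map c.op t₀) = evψ j ψ E (ptQ (c ≫ e ≫ x₀))
    rw [NatTrans.naturality_apply g.hom c.op, hg₀, map_map, map_map, Category.assoc]
    show K.obj.map (c ≫ e).op sY = _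
    rw [← hv, show sY = evψ j ψ QA (ptQ x₀) from rfl, ← evψ_natural j ψ v, pt_natural, hv, Category.assoc]
  let z₀ : pairs j g ψ E := ⟨_, hmem⟩
  have hbij : ∀ Z : Over T, Function.Bijective fun φ : Z ⟶ E => pullPair j g ψ φ z₀ := by
    intro Z
    have key : ∀ z : pairs j g ψ Z, ∃! φ : Z ⟶ E, pullPair j g ψ φ z₀ = z := by
      intro z
      let x : sl j Z ⟶ Q := z.1.1.down.toMul
      let q : sl j Z ⟶ sl j QA := slm j (ExtGm.pts j Q Z x)
      have ht : g.hom.app (op (sl j Z)) z.1.2 = K.obj.map (q ≫ θ.inv).op (K.obj.map θ.hom.op sY) := by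
        rw [map_map, Category.assoc, Iso.inv_hom_id, Category.comp_id, (mem_pairs j g ψ).1 z.2,
          show sY = evψ j ψ QA (ptQ x₀) from rfl, ← evψ_natural j ψ (ExtGm.pts j Q Z x), pt_natural, hw₀ x]
        rfl
      obtain ⟨p, ⟨hp, hpt⟩, hpuniq⟩ := huniv (sl j Z) (q ≫ θ.inv) z.1.2 ht
      have hpe : p ≫ e = q := by
        show p ≫ toBase bB R ≫ θ.hom = q
        rw [← Category.assoc, hp, Category.assoc, Iso.inv_hom_id, Category.comp_id]
      let φ : Z ⟶ E := Over.homMk p.left (by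
        show p.left ≫ (e ≫ slb j QA).left = Z.hom
        have := congrArg Over.Hom.left ((Category.assoc p e (slb j QA)).symm.trans
          ((congrArg (· ≫ slb j QA) hpe).trans (slm_slb j _)))
        exact this)
      have hφ : slm j φ ≫ c = p := Over.OverMorphism.ext (Category.comp_id _)
      refine ⟨φ, Subtype.ext (Prod.ext ?_ ?_), fun φ' hφ' => ?_⟩
      · show ptQ (slm j φ ≫ c ≫ e ≫ x₀) = z.1.1
        rw [← Category.assoc, hφ, ← Category.assoc, hpe, hw₀ x]
        rfl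
      · show P.obj.map (slm j φ).op (P.obj.map c.op t₀) = z.1.2
        rw [map_map, hφ, hpt]
      · have h1 : slm j φ' ≫ c ≫ e ≫ x₀ = x :=
          congrArg (fun y : pairs j g ψ Z => y.1.1.down.toMul) hφ'
        have h2 : P.obj.map (slm j φ').op (P.obj.map c.op t₀) = z.1.2 :=
          congrArg (fun y : pairs j g ψ Z => y.1.2) hφ'
        have h3 : (slm j φ' ≫ c) ≫ e = q := sl_hom_ext j _ _
          (by rw [Category.assoc, Category.assoc, hc, slm_slb]) (slm_slb j _) (by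
            rw [Category.assoc, Category.assoc]
            exact h1.trans (hw₀ x).symm)
        have h4 := hpuniq (slm j φ' ≫ c) ⟨by
            rw [← h3]
            simp only [e, Category.assoc, Iso.hom_inv_id, Category.comp_id], by rw [← map_map]; exact h2⟩
        refine Over.OverMorphism.ext ?_
        exact ((Category.comp_id _).symm.trans (congrArg Over.Hom.left h4))
    exact ⟨fun φ φ' h => (key _).unique h rfl, fun z => (key z).exists⟩
  exact ⟨E, fun Z => Equiv.ofBijective _ (hbij Z), fun Z Z' c φ => pullPair_comp j g ψ φ c z₀⟩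

end GmVanishLib
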