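import Groth.Agent.GmVanishLib.Lifts

/-!
# Representability of the lifts of a section
-/

set_option autoImplicit false
set_option maxHeartbeats 1000000
universe u

open CategoryTheory CategoryTheory.Limits AlgebraicGeometry Opposite GmExtLib
open AdeqLib AdeqModLib

noncomputable section

namespace GmVanishLib

variable {S : Scheme.{u}} {A : CommRingCat.{u}} (b : Spec A ⟶ S)

/-- Maps of affine objects over the base come from maps of algebras. -/
theorem exists_amap {C C' : Type u} [CommRing C] [Algebra A C] [CommRing C'] [Algebra A C']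
    (p : ao b C' ⟶ ao b C) (hp : p ≫ toBase b C = toBase b C') : ∃ ψ : C →ₐ[A] C', amap b ψ = p := by
  let φ : CommRingCat.of C ⟶ CommRingCat.of C' := Spec.preimage p.left
  have hφ : Spec.map φ = p.left := Spec.map_preimage _
  have h1 : CommRingCat.ofHom (algebraMap A C) ≫ φ = CommRingCat.ofHom (algebraMap A C') := by
    apply Spec.map_injective
    rw [Spec.map_comp, hφ]
    exact congrArg Over.Hom.left hp
  exact ⟨{ φ.hom with commutes' := fun r => congr($(h1) r) }, Over.OverMorphism.ext hφ⟩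

variable {P Q : BigSite.Ab Scheme.fppfPrecoverage S} {i : G S ⟶ P} {g : P ⟶ Q} {w : i ≫ g = 0}

/-- An algebra represents the lifts of a section on affine test objects. -/
theorem exists_affine_univ (hC : (ShortComplex.mk i g w).ShortExact) (s : Q.obj.obj (op (top b))) :
    ∃ (R : Type u) (_ : CommRing R) (_ : Algebra A R) (t₀ : P.obj.obj (op (ao b R))),
      g.hom.app _ t₀ = Q.obj.map (toBase b R).op s ∧
      ∀ (C : Type u) [CommRing C] [Algebra A C] (t : P.obj.obj (op (ao b C))),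
        g.hom.app _ t = Q.obj.map (toBase b C).op s → ∃! ψ : R →ₐ[A] C, P.obj.map (amap b ψ).op t₀ = t := by
  obtain ⟨n, f, hspan, d, hd⟩ := exists_lifts b hC s
  obtain ⟨a, hcoc, ha⟩ := exists_cocycle b hC s d hd
  obtain ⟨t₀, hg₀, h₀⟩ := exists_of_wit b d hC s hd ha hspan (Rg a) (univWit a hcoc) (isWit_univ a hcoc)
  refine ⟨Rg a, inferInstance, inferInstance, t₀, hg₀, fun C _ _ t ht => ?_⟩
  obtain ⟨e, he, hrel⟩ := exists_wit b d hC s hd ha C t ht
  obtain ⟨ψ, hψ⟩ := exists_hom_of_wit a hspan hcoc e he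
  refine ⟨ψ, ?_, fun ψ' hψ' => ?_⟩
  · have h1 := Rel.natural b d ψ h₀
    rw [funext hψ] at h1
    exact eq_of_rel b d hspan C h1 hrel
  · have h1 : Rel b i d C t _ := hψ' ▸ Rel.natural b d ψ' h₀
    have h2 := wit_unique b d hC C h1 hrel
    refine hom_ext_of_wit a hspan hcoc ψ' ψ fun k => ?_
    have h3 := congrArg Units.val ((congrFun h2 k).trans (hψ k).symm)
    exact h3

/-- An algebra represents the lifts of a section. -/
theorem exists_univ (hC : (ShortComplex.mk i g w).ShortExact) (s : Q.obj.obj (op (top b))) :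
    ∃ (R : Type u) (_ : CommRing R) (_ : Algebra A R) (t₀ : P.obj.obj (op (ao b R))),
      g.hom.app _ t₀ = Q.obj.map (toBase b R).op s ∧
      ∀ (Z : Over S) (z : Z ⟶ top b) (t : P.obj.obj (op Z)),
        g.hom.app _ t = Q.obj.map z.op s →
          ∃! p : Z ⟶ ao b R, p ≫ toBase b R = z ∧ P.obj.map p.op t₀ = t := by
  obtain ⟨R, _, _, t₀, hg₀, huniv⟩ := exists_affine_univ b hC s
  refine ⟨R, inferInstance, inferInstance, t₀, hg₀, ?_⟩
  -- uniqueness on every object
  have huniq : ∀ (Z : Over S) (z : Z ⟶ top b) (t : P.obj.obj (op Z)), g.hom.app _ t = Q.obj.map z.op s →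
      ∀ p q : Z ⟶ ao b R, p ≫ toBase b R = z → P.obj.map p.op t₀ = t → q ≫ toBase b R = z →
        P.obj.map q.op t₀ = t → p = q := by
    intro Z z t ht p q hp hpt hq hqt
    refine Over.OverMorphism.ext (Scheme.Cover.hom_ext Z.left.affineOpenCover.openCover _ _ fun j => ?_)
    obtain ⟨alg, e, he, hel⟩ := GaBidualLib.exists_piece b z (Z.left.affineOpenCover.f j)
    letI := alg
    have hC' : g.hom.app _ (P.obj.map e.op t) = Q.obj.map (toBase b (Z.left.affineOpenCover.X j : Type u)).op s := by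
      rw [NatTrans.naturality_apply g.hom e.op, ht, map_map, he]
    obtain ⟨ψ, -, hψ⟩ := huniv _ _ hC'
    obtain ⟨α, hα⟩ := exists_amap b (e ≫ p) (by rw [Category.assoc, hp, he])
    obtain ⟨β, hβ⟩ := exists_amap b (e ≫ q) (by rw [Category.assoc, hq, he])
    have h1 : α = β := by
      refine (hψ α ?_).trans (hψ β ?_).symm
      · show P.obj.map (amap b α).op t₀ = _
        rw [hα, ← map_map, hpt]
      · show P.obj.map (amap b β).op t₀ = _
        rw [hβ, ← map_map, hqt]
    have h2 : e ≫ p = e ≫ q := by rw [← hα, ← hβ, h1]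
    have h3 := congrArg Over.Hom.left h2
    rw [Over.comp_left, Over.comp_left, hel] at h3
    exact h3
  intro Z z t ht
  let 𝒰 := Z.left.affineOpenCover.openCover
  have hloc : ∀ j, ∃ (e : Over.mk (𝒰.f j ≫ Z.hom) ⟶ Z) (p : Over.mk (𝒰.f j ≫ Z.hom) ⟶ ao b R),
      e.left = 𝒰.f j ∧ p ≫ toBase b R = e ≫ z ∧ P.obj.map p.op t₀ = P.obj.map e.op t := fun j => by
    obtain ⟨alg, e, he, hel⟩ := GaBidualLib.exists_piece b z (Z.left.affineOpenCover.f j)
    letI := alg
    let C : Type u := (Z.left.affineOpenCover.X j : Type u)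
    have hC' : g.hom.app _ (P.obj.map e.op t) = Q.obj.map (toBase b C).op s := by
      rw [NatTrans.naturality_apply g.hom e.op, ht, map_map, he]
    obtain ⟨ψ, hψ, -⟩ := huniv C _ hC'
    let e' : Over.mk (𝒰.f j ≫ Z.hom) ⟶ ao b C := Over.homMk (𝟙 _) (by
      refine (Category.id_comp _).trans ?_
      show (ao b C).hom = Z.left.affineOpenCover.f j ≫ Z.hom
      rw [← Over.w e, hel]
      rfl)
    refine ⟨e' ≫ e, e' ≫ amap b ψ, ?_, ?_, by rw [← map_map, ← map_map, hψ]⟩
    · exact (Category.id_comp _).trans hel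
    · rw [Category.assoc, amap_toBase, Category.assoc, he]
  choose e p hel hp hpt using hloc
  have hagree : ∀ j k, pullback.fst (𝒰.f j) (𝒰.f k) ≫ (p j).left = pullback.snd (𝒰.f j) (𝒰.f k) ≫ (p k).left := by
    intro j k
    let W : Over S := Over.mk (pullback.fst (𝒰.f j) (𝒰.f k) ≫ 𝒰.f j ≫ Z.hom)
    let u₁ : W ⟶ Over.mk (𝒰.f j ≫ Z.hom) := Over.homMk (pullback.fst (𝒰.f j) (𝒰.f k)) rfl
    let u₂ : W ⟶ Over.mk (𝒰.f k ≫ Z.hom) :=
      Over.homMk (pullback.snd (𝒰.f j) (𝒰.f k)) (pullback.condition_assoc Z.hom).symm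
    have hee : u₁ ≫ e j = u₂ ≫ e k := Over.OverMorphism.ext (by
      rw [Over.comp_left, Over.comp_left, hel, hel]
      exact pullback.condition)
    have h := huniq W (u₁ ≫ e j ≫ z) (P.obj.map (u₁ ≫ e j).op t)
      (by rw [NatTrans.naturality_apply g.hom (u₁ ≫ e j).op, ht, map_map, Category.assoc])
      (u₁ ≫ p j) (u₂ ≫ p k) (by rw [Category.assoc, hp]) (by rw [← map_map, hpt, map_map])
      (by rw [Category.assoc, hp, ← Category.assoc, ← hee, Category.assoc]) (by rw [← map_map, hpt, map_map, hee])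
    exact congrArg Over.Hom.left h
  let P₀ : Z.left ⟶ (ao b R).left := 𝒰.glueMorphisms (fun j => (p j).left) hagree
  have hP₀ : ∀ j, 𝒰.f j ≫ P₀ = (p j).left := fun j => Scheme.Cover.ι_glueMorphisms 𝒰 _ _ j
  let P₁ : Z ⟶ ao b R := Over.homMk P₀ (Scheme.Cover.hom_ext 𝒰 _ _ fun j => by
    rw [← Category.assoc, hP₀, Over.w (p j)]
    rfl)
  have he₁ : ∀ j, e j ≫ P₁ = p j := fun j => Over.OverMorphism.ext (by
    rw [Over.comp_left, hel]; exact hP₀ j)
  have hz : P₁ ≫ toBase b R = z := Over.OverMorphism.ext (Scheme.Cover.hom_ext 𝒰 _ _ fun j => by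
    have h := congrArg Over.Hom.left ((congrArg (· ≫ toBase b R) (he₁ j)).trans (hp j))
    rw [Category.assoc, Over.comp_left, hel] at h
    exact h.trans ((Over.comp_left _ _ _ _ _).trans (congrArg (· ≫ z.left) (hel j))))
  have hmem : Sieve.ofArrows _ e ∈ QuotSh.J Scheme.fppfPrecoverage S Z := by
    refine ofArrows_mem _ ((Scheme.ofArrows_mem_precoverage_iff _).2 ⟨fun y => ?_, fun j => ?_⟩)
    · obtain ⟨j, x, hx⟩ := 𝒰.exists_eq y
      exact ⟨j, x, by rw [hel]; exact hx⟩
    · change (@Flat ⊓ @LocallyOfFinitePresentation : MorphismProperty Scheme.{u}) (e j).left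
      rw [hel]
      exact ⟨inferInstanceAs (Flat (𝒰.f j)), inferInstanceAs (LocallyOfFinitePresentation (𝒰.f j))⟩
  have ht' : P.obj.map P₁.op t₀ = t := GaBidualLib.eq_of_cover P e hmem fun j => by
    rw [map_map, he₁, hpt]
  exact ⟨P₁, ⟨hz, ht'⟩, fun q hq => huniq Z z t ht q P₁ hq.1 hq.2 hz ht'⟩

end GmVanishLib
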