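import Groth.Agent.DiagRepLib.Scheme
import Groth.Agent.HopfFFLib.Injective
import Groth.Agent.AdeqModLib.Sect
import Groth.Agent.GaBidualLib.DualExact
import Groth.Prelude.Def_CGrpSh2
import Groth.Agent.GmExtLib.Sec

/-!
# Short exact sequences of sheaves from injective maps of Hopf algebras
-/

set_option autoImplicit false
set_option backward.isDefEq.respectTransparency false
set_option linter.style.haveILetI false
set_option maxHeartbeats 1000000
universe u

open CategoryTheory CategoryTheory.Limits MonoidalCategory CartesianMonoidalCategory AlgebraicGeometry Opposite CoactBr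
open AdeqLib AdeqModLib
open scoped MonObj

attribute [local instance] CoactBr.braidedAlgSpecOf
attribute [-instance] CategoryTheory.Hom.commGroup

noncomputable section

namespace GmVanishLib

variable {k : Type u} [Field k] {A B Q : Type u} [CommRing A] [CommRing B] [CommRing Q] [Algebra k A] [Algebra k B]
  [Algebra k Q]

/-- The functions of a point of an affine object. -/
def fns {Z : Over (Spec (CommRingCat.of k))} (y : Z ⟶ sp k A) : A →+* Γ(Z.left, ⊤) :=
  ((Scheme.ΓSpecIso (CommRingCat.of A)).inv ≫ Scheme.Hom.appTop (Y := Spec (CommRingCat.of A)) y.left).hom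

theorem left_eq_fns {Z : Over (Spec (CommRingCat.of k))} (y : Z ⟶ sp k A) :
    y.left = Z.left.toSpecΓ ≫ Spec.map (CommRingCat.ofHom (fns y)) :=
  eq_toSpecΓ (R := CommRingCat.of A) y.left

theorem fns_comp_pt {Z : Over (Spec (CommRingCat.of k))} (y : Z ⟶ sp k A) (φ : B →ₐ[k] A) (b : B) :
    fns (y ≫ pt φ) b = fns y (φ b) := by
  have h : Z.left.toSpecΓ ≫ Spec.map (CommRingCat.ofHom (fns (y ≫ pt φ))) =
      Z.left.toSpecΓ ≫ Spec.map (CommRingCat.ofHom φ.toRingHom ≫ CommRingCat.ofHom (fns y)) := by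
    rw [Spec.map_comp, ← left_eq_fns, ← Category.assoc, ← left_eq_fns]
    rfl
  exact congrArg (fun f : CommRingCat.of B ⟶ Γ(Z.left, ⊤) => f b) (specHom_injective _ _ h)

theorem fns_injective {Z : Over (Spec (CommRingCat.of k))} {y y' : Z ⟶ sp k A} (h : fns y = fns y') : y = y' :=
  Over.OverMorphism.ext (by rw [left_eq_fns, left_eq_fns, h])

/-- Points factor through a closed subscheme when their functions vanish on the ideal. -/
theorem exists_factor_pt {Z : Over (Spec (CommRingCat.of k))} (y : Z ⟶ sp k A) (π : A →ₐ[k] Q)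
    (hπ : Function.Surjective π) (h : ∀ a, π a = 0 → fns y a = 0) : ∃ y' : Z ⟶ sp k Q, y' ≫ pt π = y := by
  let h' : Q →+* Γ(Z.left, ⊤) := (π : A →+* Q).liftOfSurjective hπ ⟨fns y, fun a ha => h a ha⟩
  let l : Z.left ⟶ (sp k Q).left := Z.left.toSpecΓ ≫ Spec.map (CommRingCat.ofHom h')
  have hl : l ≫ (pt π).left = y.left := by
    rw [left_eq_fns y, Category.assoc]
    refine congrArg (Z.left.toSpecΓ ≫ ·) ?_
    show Spec.map (CommRingCat.ofHom h') ≫ Spec.map (CommRingCat.ofHom π.toRingHom) = _
    rw [← Spec.map_comp]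
    refine congrArg Spec.map (CommRingCat.hom_ext (RingHom.ext fun a => ?_))
    exact RingHom.liftOfSurjective_comp_apply (C := Γ(Z.left, ⊤)) (π : A →+* Q) hπ ⟨fns y, fun a ha => h a ha⟩ a
  refine ⟨Over.homMk l ?_, Over.OverMorphism.ext hl⟩
  rw [← Over.w (pt π), ← Category.assoc, hl, Over.w]

section hopf

variable {A B Q : Type u} [CommRing A] [CommRing B] [CommRing Q] [HopfAlgebra k A] [HopfAlgebra k B]
  [HopfAlgebra k Q] [Coalgebra.IsCocomm k A] [Coalgebra.IsCocomm k B] [Coalgebra.IsCocomm k Q]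

/-- The sheaf of an affine group. -/
abbrev shf (A : Type u) [CommRing A] [HopfAlgebra k A] [Coalgebra.IsCocomm k A] :
    BigSite.Ab Scheme.fppfPrecoverage (Spec (CommRingCat.of k)) :=
  CGrpSh.pts Scheme.fppfPrecoverage (sp k A)

/-- The map of sheaves of a map of Hopf algebras. -/
def shfMap (φ : B →ₐc[k] A) : shf (k := k) A ⟶ shf (k := k) B :=
  haveI : IsMonHom (pt (φ : B →ₐ[k] A)) := SekSuwa.isMonHom_specHom φ
  CGrpSh.ptsMap Scheme.fppfPrecoverage (pt (φ : B →ₐ[k] A))

theorem shfMap_app (φ : B →ₐc[k] A) (Z : Over (Spec (CommRingCat.of k)))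
    (x : (shf (k := k) A).obj.obj (op Z)) :
    (shfMap φ).hom.app (op Z) x = ULift.up (Additive.ofMul (x.down.toMul ≫ pt (φ : B →ₐ[k] A))) := rfl

theorem fns_one {Z : Over (Spec (CommRingCat.of k))} (y : Z ⟶ sp k A) (b : B) :
    fns (1 : Z ⟶ sp k B) b = fns y (algebraMap k A (Coalgebra.counit (R := k) b)) := by
  let e : Z ⟶ sp k k := y ≫ pt (Algebra.ofId k A)
  have h1 : (1 : Z ⟶ sp k B) = e ≫ pt ((Algebra.ofId k k).comp (Bialgebra.counitAlgHom k B)) := by
    rw [Groth.Agent.DiagRep.pt_one, MonObj.comp_one]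
  rw [h1, fns_comp_pt]
  exact fns_comp_pt y (Algebra.ofId k A) _

/-- An injective map of Hopf algebras gives a short exact sequence of sheaves. -/
theorem shortExact_of_injective [Algebra.FiniteType k A] [Algebra.FiniteType k B] (φ : B →ₐc[k] A)
    (hφ : Function.Injective φ) (π : A →ₐc[k] Q) (hπ : Function.Surjective π)
    (hker : RingHom.ker (π : A →+* Q) = Ideal.map (φ : B →+* A) (RingHom.ker (Bialgebra.counitAlgHom k B))) :
    ∃ w : shfMap π ≫ shfMap φ = 0, (ShortComplex.mk (shfMap π) (shfMap φ) w).ShortExact := by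
  haveI : IsMonHom (pt (π : A →ₐ[k] Q)) := SekSuwa.isMonHom_specHom π
  haveI : IsMonHom (pt (φ : B →ₐ[k] A)) := SekSuwa.isMonHom_specHom φ
  have hzero : ∀ b : B, π (φ b) = algebraMap k Q (Coalgebra.counit (R := k) b) := fun b => by
    have hm : φ b - algebraMap k A (Coalgebra.counit (R := k) b) ∈ RingHom.ker (π : A →+* Q) := by
      rw [hker, show φ b - algebraMap k A (Coalgebra.counit (R := k) b) =
        φ (b - algebraMap k B (Coalgebra.counit (R := k) b)) by rw [map_sub, AlgHomClass.commutes]]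
      exact Ideal.mem_map_of_mem (φ : B →+* A) (RingHom.mem_ker.2 (by simp))
    have h2 : π (φ b - algebraMap k A (Coalgebra.counit (R := k) b)) = 0 := hm
    rwa [map_sub, AlgHomClass.commutes, sub_eq_zero] at h2
  have hcomp : ∀ {Z : Over (Spec (CommRingCat.of k))} (y : Z ⟶ sp k Q),
      (y ≫ pt (π : A →ₐ[k] Q)) ≫ pt (φ : B →ₐ[k] A) = 1 := fun y => by
    refine fns_injective (RingHom.ext fun b => ?_)
    rw [fns_comp_pt, fns_comp_pt, fns_one y]
    exact congrArg (fns y) (hzero b)
  have w : shfMap π ≫ shfMap φ = 0 := by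
    refine Sheaf.hom_ext (NatTrans.ext (funext fun Z => AddCommGrpCat.ext fun x => ?_))
    show ULift.up (Additive.ofMul ((x.down.toMul ≫ pt (π : A →ₐ[k] Q)) ≫ pt (φ : B →ₐ[k] A))) = _
    rw [hcomp]
    rfl
  have hinj : ∀ Z : (Over (Spec (CommRingCat.of k)))ᵒᵖ, Function.Injective ((shfMap π).hom.app Z) := fun Z x y h => by
    have h' : x.down.toMul ≫ pt (π : A →ₐ[k] Q) = y.down.toMul ≫ pt (π : A →ₐ[k] Q) :=
      congrArg (fun z : (shf (k := k) A).obj.obj Z => z.down.toMul) h
    refine ULift.ext _ _ (congrArg Additive.ofMul (fns_injective (RingHom.ext fun q => ?_)))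
    obtain ⟨a, rfl⟩ := hπ q
    exact ((fns_comp_pt x.down.toMul (π : A →ₐ[k] Q) a).symm.trans
      ((congrArg (fun f : Z.unop ⟶ sp k A => fns f a) h').trans (fns_comp_pt y.down.toMul (π : A →ₐ[k] Q) a)))
  haveI : ∀ Z, Mono ((shfMap π).hom.app Z) := fun Z => (AddCommGrpCat.mono_iff_injective _).2 (hinj Z)
  haveI : Mono (shfMap π).hom := (NatTrans.mono_iff_mono_app _).2 inferInstance
  haveI : Mono (shfMap π) := (sheafToPresheaf _ _).mono_of_mono_map ‹_›
  refine ⟨w, { exact := ?_, mono_f := inferInstance, epi_g := ?_ }⟩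
  · refine GaBidualLib.exact_of_app _ _ _ w fun Z x hx => ?_
    have hx' : x.down.toMul ≫ pt (φ : B →ₐ[k] A) = 1 :=
      congrArg (fun z : (shf (k := k) B).obj.obj Z => z.down.toMul) hx
    obtain ⟨y, hy⟩ := exists_factor_pt x.down.toMul (π : A →ₐ[k] Q) hπ fun a ha => by
      have hle : RingHom.ker (π : A →+* Q) ≤ RingHom.ker (fns x.down.toMul) := by
        rw [hker, Ideal.map_le_iff_le_comap]
        intro b hb
        show fns x.down.toMul (φ b) = 0
        have hb' : Coalgebra.counit (R := k) b = 0 := hb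
        refine (fns_comp_pt x.down.toMul (φ : B →ₐ[k] A) b).symm.trans ?_
        rw [hx', fns_one x.down.toMul, hb', map_zero, map_zero]
      exact hle ha
    exact ⟨ULift.up (Additive.ofMul y), ULift.ext _ _ (congrArg Additive.ofMul hy)⟩
  · suffices Sheaf.IsLocallySurjective (shfMap φ) from
      (Sheaf.isLocallySurjective_iff_epi' AddCommGrpCat.{u + 1} (shfMap φ)).1 this
    have hff := Groth.Agent.HopfFF.faithfullyFlat_of_injective φ hφ
    let m : (sp k A).left ⟶ (sp k B).left := (pt (φ : B →ₐ[k] A)).left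
    haveI : Flat m := (HasRingHomProperty.Spec_iff (P := @Flat)).2 hff.flat
    haveI : Surjective m := ⟨(RingHom.FaithfullyFlat.iff_flat_and_comap_surjective.1 hff).2⟩
    haveI : LocallyOfFinitePresentation m := by
      refine (HasRingHomProperty.Spec_iff (P := @LocallyOfFinitePresentation)).2 ?_
      haveI : IsNoetherianRing B := Algebra.FiniteType.isNoetherianRing k B
      letI : Algebra B A := ((φ : B →ₐ[k] A) : B →+* A).toAlgebra
      haveI : IsScalarTower k B A := IsScalarTower.of_algebraMap_eq fun c =>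
        ((φ : B →ₐ[k] A).commutes c).symm
      haveI : Algebra.FiniteType B A := Algebra.FiniteType.of_restrictScalars_finiteType k B A
      exact RingHom.finitePresentation_algebraMap.2 ((Algebra.FinitePresentation.of_finiteType (R := B) (A := A)).1 inferInstance)
    refine ⟨fun {Z} x => ?_⟩
    let x' : Z ⟶ sp k B := x.down.toMul
    let W : Over (Spec (CommRingCat.of k)) := Over.mk (pullback.fst x'.left m ≫ Z.hom)
    let r : W ⟶ Z := Over.homMk (pullback.fst x'.left m) rfl
    let y : W ⟶ sp k A := Over.homMk (pullback.snd x'.left m) (by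
      show pullback.snd x'.left m ≫ (sp k A).hom = pullback.fst x'.left m ≫ Z.hom
      rw [← Over.w x', ← Over.w (pt (φ : B →ₐ[k] A)), pullback.condition_assoc])
    have hr : Sieve.ofArrows (fun _ : PUnit.{1} => W) (fun _ => r) ∈
        QuotSh.J Scheme.fppfPrecoverage (Spec (CommRingCat.of k)) Z := by
      refine ofArrows_mem _ ((Scheme.ofArrows_mem_precoverage_iff _).2 ⟨fun z => ?_, fun _ => ?_⟩)
      · haveI hs : Surjective (pullback.fst x'.left m) := inferInstance
        obtain ⟨z', hz'⟩ := hs.surj z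
        exact ⟨PUnit.unit, z', hz'⟩
      · change (@Flat ⊓ @LocallyOfFinitePresentation : MorphismProperty Scheme.{u}) (pullback.fst x'.left m)
        exact ⟨inferInstance, inferInstance⟩
    refine GrothendieckTopology.superset_covering _ ?_ hr
    rw [Sieve.ofArrows, Sieve.generate_le_iff]
    rintro _ _ ⟨⟩
    refine ⟨ULift.up (Additive.ofMul y), ULift.ext _ _ (congrArg Additive.ofMul ?_)⟩
    exact Over.OverMorphism.ext pullback.condition.symm

end hopf

end GmVanishLib
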