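import Groth.Agent.GmVanishLib.Laurent

/-!
# The universal trivialisation of a cocycle of units
-/

set_option autoImplicit false
set_option maxHeartbeats 1000000
universe u

open LaurentPolynomial GmExtLib

noncomputable section

namespace GmVanishLib

variable {B : Type u} [CommRing B]

attribute [local irreducible] pr

/-- The map of localisations along a map of algebras. -/
def qm {C C' : Type u} [CommRing C] [Algebra B C] [CommRing C'] [Algebra B C'] (ψ : C →ₐ[B] C') (g : B) :
    L (algebraMap B C g) →+* L (algebraMap B C' g) :=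
  IsLocalization.Away.lift (algebraMap B C g) (g := (algebraMap C' (L (algebraMap B C' g))).comp ψ.toRingHom) (by
    show IsUnit (algebraMap C' (L (algebraMap B C' g)) (ψ (algebraMap B C g)))
    rw [ψ.commutes]
    exact IsLocalization.Away.algebraMap_isUnit _)

theorem qm_algebraMap {C C' : Type u} [CommRing C] [Algebra B C] [CommRing C'] [Algebra B C'] (ψ : C →ₐ[B] C')
    (g : B) (x : C) :
    qm ψ g (algebraMap C (L (algebraMap B C g)) x) = algebraMap C' (L (algebraMap B C' g)) (ψ x) :=
  IsLocalization.Away.lift_eq _ _ _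

variable {κ : Type} {f : κ → B} (a : ∀ i j, (L (f i * f j))ˣ)

/-- Units trivialising the pushed cocycle. -/
def IsWit (C : Type u) [CommRing C] [Algebra B C] (e : ∀ k, (L (algebraMap B C (f k)))ˣ) : Prop :=
  ∀ k l, (push (algebraMap B C) a k l : L (algebraMap B C (f k) * algebraMap B C (f l))) *
      mr (algebraMap B C (f k)) (algebraMap B C (f l)) (e l : L (algebraMap B C (f l))) =
    ml (algebraMap B C (f k)) (algebraMap B C (f l)) (e k : L (algebraMap B C (f k)))

theorem isUnit_pr (k : κ) : IsUnit (pr a k (algebraMap B (Rg a) (f k))) := by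
  rw [pr_algebraMap]
  exact (IsLocalization.Away.algebraMap_isUnit (f k)).map LaurentPolynomial.C

/-- The chart. -/
def rho (k : κ) : L (algebraMap B (Rg a) (f k)) →+* LP (f k) :=
  IsLocalization.Away.lift (algebraMap B (Rg a) (f k)) (isUnit_pr a k)

theorem rho_algebraMap (k : κ) (x : Rg a) : rho a k (algebraMap (Rg a) _ x) = pr a k x :=
  IsLocalization.Away.lift_eq _ _ _

variable [Finite κ] (hspan : Ideal.span (Set.range f) = ⊤) (ha : IsCoc a)

include ha in
theorem rho_bijective (k : κ) : Function.Bijective (rho a k) := by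
  refine ⟨(injective_iff_map_eq_zero _).2 fun z hz => ?_, fun Q => ?_⟩
  · obtain ⟨n, x, hx⟩ := IsLocalization.Away.surj (algebraMap B (Rg a) (f k)) z
    have h0 : pr a k x = 0 := by rw [← rho_algebraMap, ← hx, map_mul, hz, zero_mul]
    obtain ⟨N, hN⟩ := exists_pow_mul_eq_zero' a h0
    have hu : IsUnit (algebraMap (Rg a) (L (algebraMap B (Rg a) (f k))) (algebraMap B (Rg a) (f k))) :=
      IsLocalization.Away.algebraMap_isUnit _
    refine (hu.pow (n + N)).mul_left_eq_zero.1 ?_
    rw [pow_add, ← mul_assoc, hx, ← map_pow (algebraMap (Rg a) _), ← map_mul (algebraMap (Rg a) _), mul_comm x, hN, map_zero]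
  · obtain ⟨N, hN⟩ := exists_pow_mul_eq_pr a ha k Q
    obtain ⟨P, hP⟩ := hN N le_rfl
    obtain ⟨z, hz⟩ := (IsLocalization.Away.algebraMap_isUnit (algebraMap B (Rg a) (f k)) :
      IsUnit (algebraMap (Rg a) (L (algebraMap B (Rg a) (f k))) (algebraMap B (Rg a) (f k)))).exists_right_inv
    refine ⟨z ^ N * algebraMap (Rg a) _ P, ?_⟩
    have hz' := congrArg (rho a k) hz
    rw [map_mul, rho_algebraMap, pr_algebraMap, map_one] at hz'
    rw [map_mul, map_pow, rho_algebraMap, hP, map_pow, ← mul_assoc, ← mul_pow, mul_comm (rho a k z), hz', one_pow,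
      one_mul]

/-- The chart as an isomorphism. -/
def rhoEquiv (k : κ) : L (algebraMap B (Rg a) (f k)) ≃+* LP (f k) := RingEquiv.ofBijective _ (rho_bijective a ha k)

/-- The universal units. -/
def univWit (k : κ) : (L (algebraMap B (Rg a) (f k)))ˣ :=
  Units.map (rhoEquiv a ha k).symm.toRingHom.toMonoidHom (Tu (L (f k)))

theorem rho_univWit (k : κ) : rho a k (univWit a ha k) = T 1 :=
  ((rhoEquiv a ha k).apply_symm_apply _).trans (val_Tu _)

/-- The chart of an intersection. -/
def Psi (k l : κ) : L (algebraMap B (Rg a) (f k) * algebraMap B (Rg a) (f l)) →+* LP (f k * f l) :=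
  IsLocalization.Away.lift (algebraMap B (Rg a) (f k) * algebraMap B (Rg a) (f l))
    (g := (sL k l).comp (pr a k)) (by
      show IsUnit (sL k l (pr a k (_ * _)))
      rw [map_mul, map_mul, pr_algebraMap, pr_algebraMap, sL_C, sL_C, AlgHom.commutes, AlgHom.commutes]
      exact ((isUnit_left (f k) (f l)).map LaurentPolynomial.C).mul ((isUnit_right (f k) (f l)).map LaurentPolynomial.C))

theorem Psi_algebraMap (k l : κ) (x : Rg a) : Psi a k l (algebraMap (Rg a) _ x) = sL k l (pr a k x) :=
  IsLocalization.Away.lift_eq _ _ _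

include ha in
theorem Psi_injective (k l : κ) : Function.Injective (Psi a k l) := by
  classical
  refine (injective_iff_map_eq_zero _).2 fun z hz => ?_
  obtain ⟨n, x, hx⟩ := IsLocalization.Away.surj (algebraMap B (Rg a) (f k) * algebraMap B (Rg a) (f l)) z
  have h0 : sL k l (pr a k x) = 0 := by rw [← Psi_algebraMap, ← hx, map_mul, hz, zero_mul]
  have hco : ∀ (Q : LP (f k)) (m : ℤ), (sL k l Q).coeff m = ml (f k) (f l) (Q.coeff m) := by
    intro Q m
    induction Q using LaurentPolynomial.induction_on' with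
    | add p q hp hq => simp [map_add, hp, hq]
    | C_mul_T i c =>
      rw [sL_C_T, coeff_CT, coeff_CT]
      rcases eq_or_ne i m with rfl | hne
      · rw [if_pos rfl, if_pos rfl]
      · rw [if_neg hne, if_neg hne, map_zero]
  have hs : ∀ m : (pr a k x).coeff.support, ∃ N, ∀ M, N ≤ M →
      algebraMap B (L (f k)) (f l) ^ M * (pr a k x).coeff m = 0 := fun m => by
    obtain ⟨N, hN⟩ := exists_pow_mul_eq_zero (f k) (f l) _ (by rw [← hco _ (m : ℤ), h0]; rfl)
    refine ⟨N, fun M hM => ?_⟩
    obtain ⟨d, rfl⟩ := Nat.exists_eq_add_of_le hM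
    rw [pow_add, mul_comm (_ ^ N), mul_assoc, hN, mul_zero]
  obtain ⟨N, hN⟩ := exists_uniform hs
  have h1 : pr a k (algebraMap B (Rg a) (f l) ^ N * x) = 0 := by
    refine LaurentPolynomial.ext fun m => ?_
    rw [map_mul, map_pow, pr_algebraMap, ← map_pow, coeff_C_mul']
    by_cases hm : m ∈ (pr a k x).coeff.support
    · rw [hN ⟨m, hm⟩ N le_rfl]; rfl
    · rw [Finsupp.notMem_support_iff.1 hm, mul_zero]; rfl
  obtain ⟨M, hM⟩ := exists_pow_mul_eq_zero' a h1
  have hu : IsUnit (algebraMap (Rg a) (L (algebraMap B (Rg a) (f k) * algebraMap B (Rg a) (f l)))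
      (algebraMap B (Rg a) (f k) * algebraMap B (Rg a) (f l))) := IsLocalization.Away.algebraMap_isUnit _
  refine (hu.pow (n + (M + N))).mul_left_eq_zero.1 ?_
  rw [pow_add, ← mul_assoc, hx, ← map_pow (algebraMap (Rg a) _), ← map_mul (algebraMap (Rg a) _),
    show x * (algebraMap B (Rg a) (f k) * algebraMap B (Rg a) (f l)) ^ (M + N) =
      algebraMap B (Rg a) (f k) ^ N * algebraMap B (Rg a) (f l) ^ M *
        (algebraMap B (Rg a) (f k) ^ M * (algebraMap B (Rg a) (f l) ^ N * x)) by ring, hM, mul_zero, map_zero]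

theorem Psi_ml (k l : κ) (z : L (algebraMap B (Rg a) (f k))) :
    Psi a k l (ml _ _ z) = sL k l (rho a k z) := by
  have e : (Psi a k l).comp (ml (algebraMap B (Rg a) (f k)) (algebraMap B (Rg a) (f l))).toRingHom =
      (sL k l).comp (rho a k) := by
    refine IsLocalization.ringHom_ext (Submonoid.powers (algebraMap B (Rg a) (f k))) (RingHom.ext fun x => ?_)
    show Psi a k l (ml _ _ (algebraMap (Rg a) _ x)) = sL k l (rho a k (algebraMap (Rg a) _ x))
    rw [show ml (algebraMap B (Rg a) (f k)) (algebraMap B (Rg a) (f l)) (algebraMap (Rg a) _ x) = algebraMap (Rg a) _ x from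
      (ml (algebraMap B (Rg a) (f k)) (algebraMap B (Rg a) (f l))).commutes x]
    rw [Psi_algebraMap, rho_algebraMap]
  exact congrArg (fun φ : L (algebraMap B (Rg a) (f k)) →+* LP (f k * f l) => φ z) e

theorem Psi_mr (k l : κ) (z : L (algebraMap B (Rg a) (f l))) :
    Psi a k l (mr _ _ z) = sR a k l (rho a l z) := by
  have e : (Psi a k l).comp (mr (algebraMap B (Rg a) (f k)) (algebraMap B (Rg a) (f l))).toRingHom =
      (sR a k l).comp (rho a l) := by
    refine IsLocalization.ringHom_ext (Submonoid.powers (algebraMap B (Rg a) (f l))) (RingHom.ext fun x => ?_)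
    show Psi a k l (mr _ _ (algebraMap (Rg a) _ x)) = sR a k l (rho a l (algebraMap (Rg a) _ x))
    rw [show mr (algebraMap B (Rg a) (f k)) (algebraMap B (Rg a) (f l)) (algebraMap (Rg a) _ x) = algebraMap (Rg a) _ x from
      (mr (algebraMap B (Rg a) (f k)) (algebraMap B (Rg a) (f l))).commutes x]
    rw [Psi_algebraMap, rho_algebraMap]
    exact Rg_spec a x k l
  exact congrArg (fun φ : L (algebraMap B (Rg a) (f l)) →+* LP (f k * f l) => φ z) e

theorem Psi_pm₂ (k l : κ) (c : L (f k * f l)) :
    Psi a k l (pm₂ (algebraMap B (Rg a)) (f k) (f l) c) = LaurentPolynomial.C c := by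
  have e : (Psi a k l).comp (pm₂ (algebraMap B (Rg a)) (f k) (f l)) = LaurentPolynomial.C := by
    refine IsLocalization.ringHom_ext (Submonoid.powers (f k * f l)) (RingHom.ext fun x => ?_)
    show Psi a k l (pm₂ _ _ _ (algebraMap B _ x)) = LaurentPolynomial.C (algebraMap B _ x)
    rw [pm₂_algebraMap, Psi_algebraMap, pr_algebraMap, sL_C, AlgHom.commutes]
  exact congrArg (fun φ : L (f k * f l) →+* LP (f k * f l) => φ c) e

theorem isWit_univ : IsWit a (Rg a) (univWit a ha) := fun k l => by
  refine Psi_injective a ha k l ?_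
  rw [map_mul, Psi_mr, Psi_ml, rho_univWit, rho_univWit, sL_T, sR_T]
  show Psi a k l (pm₂ (algebraMap B (Rg a)) (f k) (f l) (a k l : L (f k * f l))) * _ = _
  rw [Psi_pm₂, ← mul_assoc, ← map_mul, Units.mul_inv, map_one, one_mul]

variable {C : Type u} [CommRing C] [Algebra B C]

/-- The local evaluation attached to units. -/
def theta (e : ∀ k, (L (algebraMap B C (f k)))ˣ) (k : κ) : LP (f k) →+* L (algebraMap B C (f k)) :=
  LaurentPolynomial.eval₂ (pm (algebraMap B C) (f k)) (e k)

include hspan in
theorem exists_hom_of_wit (e : ∀ k, (L (algebraMap B C (f k)))ˣ) (he : IsWit a C e) :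
    ∃ ψ : Rg a →ₐ[B] C, ∀ k, Units.map (qm ψ (f k)).toMonoidHom (univWit a ha k) = e k := by
  classical
  have hspan' := span_push (algebraMap B C) hspan
  have hcomp : ∀ (x : Rg a) (k l : κ),
      ml (algebraMap B C (f k)) (algebraMap B C (f l)) (theta e k (pr a k x)) = mr _ _ (theta e l (pr a l x)) := by
    intro x k l
    let Th : LP (f k * f l) →+* L (algebraMap B C (f k) * algebraMap B C (f l)) :=
      LaurentPolynomial.eval₂ (pm₂ (algebraMap B C) (f k) (f l))
        (um (ml (algebraMap B C (f k)) (algebraMap B C (f l))) (e k))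
    have h1 : Th.comp (sL k l) = (ml (algebraMap B C (f k)) (algebraMap B C (f l))).toRingHom.comp (theta e k) := by
      refine lp_hom_ext (fun r => ?_) ?_
      · show Th (sL k l (LaurentPolynomial.C r)) = ml _ _ (theta e k (LaurentPolynomial.C r))
        rw [sL_C, theta, LaurentPolynomial.eval₂_C, LaurentPolynomial.eval₂_C, pm₂_ml]
      · show Th (sL k l (T 1)) = ml _ _ (theta e k (T 1))
        rw [sL_T, theta, eval₂_T_one, eval₂_T_one, val_um]
    have h2 : Th.comp (sR a k l) = (mr (algebraMap B C (f k)) (algebraMap B C (f l))).toRingHom.comp (theta e l) := by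
      refine lp_hom_ext (fun r => ?_) ?_
      · show Th (sR a k l (LaurentPolynomial.C r)) = mr _ _ (theta e l (LaurentPolynomial.C r))
        rw [sR_C, theta, LaurentPolynomial.eval₂_C, LaurentPolynomial.eval₂_C, pm₂_mr]
      · show Th (sR a k l (T 1)) = mr _ _ (theta e l (T 1))
        rw [sR_T, theta, map_mul, LaurentPolynomial.eval₂_C, eval₂_T_one, eval₂_T_one, val_um, ← he k l, ← mul_assoc]
        show _ * pm₂ (algebraMap B C) (f k) (f l) (a k l : L (f k * f l)) * _ = _
        rw [(map_mul (pm₂ (algebraMap B C) (f k) (f l)) _ _).symm.trans (congrArg _ (Units.inv_mul (a k l))), map_one, one_mul]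
    refine (congrArg (fun φ : LP (f k) →+* _ => φ (pr a k x)) h1).symm.trans ?_
    refine (congrArg Th (Rg_spec a x k l)).trans ?_
    exact congrArg (fun φ : LP (f l) →+* _ => φ (pr a l x)) h2
  choose ψ hψ using fun x => exists_glue hspan' (fun k => theta e k (pr a k x)) (hcomp x)
  have hext : ∀ (x : Rg a) (c : C), (∀ k, algebraMap C (L (algebraMap B C (f k))) c = theta e k (pr a k x)) → ψ x = c :=
    fun x c hc => eq_of_locally hspan' fun k => (hψ x k).trans (hc k).symm
  let ψ' : Rg a →ₐ[B] C :=
    { toFun := ψ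
      map_one' := hext 1 1 fun k => by simp
      map_zero' := hext 0 0 fun k => by simp
      map_add' := fun x y => hext _ _ fun k => by simp only [map_add, hψ]
      map_mul' := fun x y => hext _ _ fun k => by simp only [map_mul, hψ]
      commutes' := fun r => hext _ _ fun k => by
        rw [pr_algebraMap, theta, LaurentPolynomial.eval₂_C, pm_algebraMap] }
  refine ⟨ψ', fun k => Units.ext ?_⟩
  show qm ψ' (f k) (univWit a ha k) = e k
  have h : qm ψ' (f k) = (theta e k).comp (rho a k) := by
    refine IsLocalization.ringHom_ext (Submonoid.powers (algebraMap B (Rg a) (f k))) (RingHom.ext fun x => ?_)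
    show qm ψ' (f k) (algebraMap (Rg a) _ x) = theta e k (rho a k (algebraMap (Rg a) _ x))
    rw [qm_algebraMap, rho_algebraMap]
    exact hψ x k
  rw [h, RingHom.comp_apply, rho_univWit, theta, eval₂_T_one]

include hspan in
theorem hom_ext_of_wit (ψ ψ' : Rg a →ₐ[B] C)
    (h : ∀ k, qm ψ (f k) (univWit a ha k : L (algebraMap B (Rg a) (f k))) =
      qm ψ' (f k) (univWit a ha k : L (algebraMap B (Rg a) (f k)))) : ψ = ψ' := by
  refine AlgHom.ext fun x => eq_of_locally (span_push (algebraMap B C) hspan) fun k => ?_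
  have e : (qm ψ (f k)).comp (rhoEquiv a ha k).symm.toRingHom = (qm ψ' (f k)).comp (rhoEquiv a ha k).symm.toRingHom := by
    refine lp_hom_ext (fun r => ?_) ?_
    · have hs : ((qm ψ (f k)).comp (rhoEquiv a ha k).symm.toRingHom).comp (LaurentPolynomial.C) =
          ((qm ψ' (f k)).comp (rhoEquiv a ha k).symm.toRingHom).comp LaurentPolynomial.C := by
        refine IsLocalization.ringHom_ext (Submonoid.powers (f k)) (RingHom.ext fun y => ?_)
        show qm ψ (f k) ((rhoEquiv a ha k).symm (LaurentPolynomial.C (algebraMap B _ y))) =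
          qm ψ' (f k) ((rhoEquiv a ha k).symm (LaurentPolynomial.C (algebraMap B _ y)))
        rw [show (rhoEquiv a ha k).symm (LaurentPolynomial.C (algebraMap B (L (f k)) y)) =
            algebraMap (Rg a) _ (algebraMap B (Rg a) y) from (RingEquiv.symm_apply_eq _).2
              ((pr_algebraMap a k y).symm.trans (rho_algebraMap a k _).symm),
          qm_algebraMap, qm_algebraMap, ψ.commutes, ψ'.commutes]
      exact congrArg (fun φ : L (f k) →+* L (algebraMap B C (f k)) => φ r) hs
    · show qm ψ (f k) ((rhoEquiv a ha k).symm (T 1)) = qm ψ' (f k) ((rhoEquiv a ha k).symm (T 1))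
      rw [← val_Tu]
      exact h k
  have := congrArg (fun φ : LP (f k) →+* L (algebraMap B C (f k)) => φ (pr a k x)) e
  rw [← qm_algebraMap ψ (f k) x, ← qm_algebraMap ψ' (f k) x]
  simp only [RingHom.comp_apply, RingEquiv.toRingHom_eq_coe, RingEquiv.coe_toRingHom] at this
  rwa [show (rhoEquiv a ha k).symm (pr a k x) = algebraMap (Rg a) _ x from
    (RingEquiv.symm_apply_eq _).2 (rho_algebraMap a k x).symm] at this

end GmVanishLib
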